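import Mathlib

/-!
A group acting on `β` is mapped onto a group `K` acting faithfully on `X` by intertwining the two
actions along an injection `φ : X → β`; the order of the source bounds the kernel.
-/

set_option autoImplicit false

namespace Cfsg.Agent.Mathieu

variable {G K β X : Type*} [Group G] [MulAction G β] [Group K] [MulAction K X]

/-- The pairs of an element of `H` and an element of `K` acting alike along `φ`. -/
def intertwiners (H : Subgroup G) (φ : X → β) : Subgroup (H × K) where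
  carrier := {p | ∀ x, (p.1 : G) • φ x = φ (p.2 • x)}
  one_mem' x := by simp
  mul_mem' {p q} hp hq x := by
    rw [Prod.fst_mul, Prod.snd_mul, Subgroup.coe_mul, mul_smul, hq x, hp, mul_smul]
  inv_mem' {p} hp x := by
    rw [Prod.fst_inv, Prod.snd_inv, Subgroup.coe_inv, inv_smul_eq_iff, hp, smul_inv_smul]

theorem mem_intertwiners {H : Subgroup G} {φ : X → β} {p : H × K} :
    p ∈ intertwiners H φ ↔ ∀ x, (p.1 : G) • φ x = φ (p.2 • x) := Iff.rfl

/-- If the generators of `K` are induced by elements of `H`, at least `n` elements of `H` act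
trivially along `φ` and `|H| ≤ n |K|`, then `H` maps onto `K` with a kernel of order `n`. -/
theorem exists_hom_of_intertwine [Finite G] [Finite K] [FaithfulSMul K X] (H : Subgroup G)
    (φ : X → β) (hφ : Function.Injective φ) (S : Set K) (hS : Subgroup.closure S = ⊤)
    (hlift : ∀ k ∈ S, ∃ h ∈ H, ∀ x, h • φ x = φ (k • x)) (n : ℕ)
    (hfix : n ≤ {h : G | h ∈ H ∧ ∀ x, h • φ x = φ x}.ncard) (hcard : Nat.card H ≤ n * Nat.card K) :
    ∃ f : H →* K, Function.Surjective f ∧
      (∀ (h : H) (x : X), (h : G) • φ x = φ (f h • x)) ∧ Nat.card f.ker = n ∧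
      Nat.card H = n * Nat.card K := by
  set Γ : Subgroup (H × K) := intertwiners H φ with hΓ
  let p₁ : Γ →* H := (MonoidHom.fst H K).comp Γ.subtype
  let p₂ : Γ →* K := (MonoidHom.snd H K).comp Γ.subtype
  have h1 : Function.Injective p₁ := by
    rintro ⟨⟨h, k⟩, hp⟩ ⟨⟨h', k'⟩, hp'⟩ (rfl : h = h')
    have hk : k = k' := FaithfulSMul.eq_of_smul_eq_smul (α := X) fun x =>
      hφ ((hp x).symm.trans (hp' x))
    subst hk
    rfl
  have h2 : Function.Surjective p₂ := by
    rw [← MonoidHom.range_eq_top, eq_top_iff, ← hS, Subgroup.closure_le]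
    intro k hk
    obtain ⟨h, hh, he⟩ := hlift k hk
    exact ⟨⟨(⟨h, hh⟩, k), he⟩, rfl⟩
  have hker : n ≤ Nat.card p₂.ker := by
    refine hfix.trans ?_
    rw [← Nat.card_coe_set_eq]
    refine Nat.card_le_card_of_injective
      (fun h : {h : G | h ∈ H ∧ ∀ x, h • φ x = φ x} =>
        (⟨⟨(⟨h.1, h.2.1⟩, 1), fun x => by rw [one_smul]; exact h.2.2 x⟩, rfl⟩ : p₂.ker)) ?_
    intro a b hab
    exact Subtype.ext (congrArg (fun z : p₂.ker => ((z : Γ) : H × K).1.val) hab)
  have hΓcard : Nat.card Γ = Nat.card p₂.ker * Nat.card K := by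
    rw [Subgroup.card_eq_card_quotient_mul_card_subgroup p₂.ker,
      Nat.card_congr (QuotientGroup.quotientKerEquivOfSurjective p₂ h2).toEquiv, mul_comm]
  have hle : Nat.card Γ ≤ Nat.card H := Nat.card_le_card_of_injective _ h1
  have hge : n * Nat.card K ≤ Nat.card Γ := hΓcard ▸ Nat.mul_le_mul_right _ hker
  have hHK : Nat.card H = n * Nat.card K := le_antisymm hcard (hge.trans hle)
  have hbij : Function.Bijective p₁ :=
    (Nat.bijective_iff_injective_and_card _).2 ⟨h1, by omega⟩
  let e : Γ ≃* H := MulEquiv.ofBijective p₁ hbij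
  refine ⟨p₂.comp e.symm.toMonoidHom, h2.comp e.symm.surjective, fun h x => ?_, ?_, hHK⟩
  · have := (e.symm h).2 x
    rwa [show ((e.symm h : Γ) : H × K).1 = h from e.apply_symm_apply h] at this
  · rw [Nat.card_congr ((p₂.comp e.symm.toMonoidHom).ker.equivMapOfInjective e.symm.toMonoidHom
      e.symm.injective).toEquiv]
    have hmap : (p₂.comp e.symm.toMonoidHom).ker.map e.symm.toMonoidHom = p₂.ker := by
      ext z
      exact ⟨fun ⟨h, hh, he⟩ => he ▸ hh, fun hz => ⟨e z, by simpa using hz, e.symm_apply_apply z⟩⟩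
    rw [hmap]
    have := hΓcard
    have hK : 0 < Nat.card K := Nat.card_pos
    exact Nat.eq_of_mul_eq_mul_right hK (by omega)

/-- The case without kernel: `H` is isomorphic to `K`. -/
theorem nonempty_equiv_of_intertwine [Finite G] [Finite K] [FaithfulSMul K X] (H : Subgroup G)
    (φ : X → β) (hφ : Function.Injective φ) (S : Set K) (hS : Subgroup.closure S = ⊤)
    (hlift : ∀ k ∈ S, ∃ h ∈ H, ∀ x, h • φ x = φ (k • x)) (hcard : Nat.card H ≤ Nat.card K) :
    Nonempty (H ≃* K) := by
  obtain ⟨f, hf, -, hk, hHK⟩ := exists_hom_of_intertwine H φ hφ S hS hlift 1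
    ((Set.ncard_pos).2 ⟨1, H.one_mem, fun x => one_smul _ _⟩) (by rwa [one_mul])
  refine ⟨MulEquiv.ofBijective f ⟨?_, hf⟩⟩
  rw [← MonoidHom.ker_eq_bot_iff, ← Subgroup.card_eq_one, hk]

end Cfsg.Agent.Mathieu
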