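import Cfsg.Agent.Lib.Mathieu.Dodecad.QuartetStab
import Cfsg.Agent.Lib.Mathieu.Dodecad.InvolutionData

/-!
The involutions of `M11` form one class, with centraliser `GL(2, 3)`.
-/

set_option autoImplicit false
set_option maxRecDepth 20000

namespace Cfsg.Agent.Mathieu.Involution

open Cfsg
open scoped Pointwise Matrix

theorem invBase_ok : (m11OK invBase && isId 24 (packMul 24 invBase invBase)) = true := by
  decide +kernel

/-- The reference involution. -/
noncomputable def invPerm : Equiv.Perm GolayPt :=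
  (exists_of_m11OK (Bool.and_eq_true_iff.1 invBase_ok).1).choose

theorem invPerm_spec : invPerm ∈ Spor.M11 ∧ Rep ptEnc invPerm invBase :=
  (exists_of_m11OK (Bool.and_eq_true_iff.1 invBase_ok).1).choose_spec

theorem invPerm_sq : invPerm * invPerm = 1 :=
  (rep_packMul invPerm_spec.2 invPerm_spec.2).eq_one (Bool.and_eq_true_iff.1 invBase_ok).2

theorem invPerm_apply_self (x : GolayPt) : invPerm (invPerm x) = x := by
  rw [← Equiv.Perm.mul_apply, invPerm_sq, Equiv.Perm.one_apply]

/-- The eleven points moved by `M11`. -/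
def eleven : Finset GolayPt := Spor.squareDodecad.erase (some 0)

theorem idx_mem_eleven {i : ℕ} (hi : i < 24) :
    idx ptEnc i ∈ eleven ↔ i ≠ 0 ∧ dodMask.testBit i = true := by
  rw [eleven, Finset.mem_erase, idx_mem_square hi, ← idx_zero, Ne, idx_eq_iff hi,
    idx_val (show 0 < 24 by norm_num)]
  exact and_congr_left' ne_comm

theorem M11_maps_eleven {g : Equiv.Perm GolayPt} (hg : g ∈ Spor.M11) {x : GolayPt}
    (hx : x ∈ eleven) : g x ∈ eleven := by
  rw [eleven, Finset.mem_erase] at hx ⊢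
  exact ⟨fun h => hx.1 (g.injective (h.trans (mem_M11_iff.1 hg).2.symm)),
    M12_maps_dodecad (mem_M11_iff.1 hg).1 hx.2⟩

/-- Two elements of `M11` agreeing at four points of the eleven are equal. -/
theorem eq_of_four {g h : Equiv.Perm GolayPt} (hg : g ∈ Spor.M11) (hh : h ∈ Spor.M11)
    (x : Fin 4 ↪ GolayPt) (hx : ∀ i, x i ∈ eleven) (he : ∀ i, g (x i) = h (x i)) : g = h := by
  have hne : ∀ i, x i ≠ some 0 := fun i => (Finset.mem_erase.1 (hx i)).1
  let y : Fin 5 ↪ GolayPt := ⟨Fin.cons (some 0) x, Fin.cons_injective_iff.2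
    ⟨fun ⟨i, hi⟩ => hne i hi, x.injective⟩⟩
  have hy : ∀ i, y i ∈ Spor.squareDodecad ∧ (h⁻¹ * g) (y i) = y i := by
    intro i
    induction i using Fin.cases with
    | zero =>
      show (some 0 : GolayPt) ∈ _ ∧ _ = (some 0 : GolayPt)
      refine ⟨?_, ?_⟩
      · rw [← idx_zero, idx_mem_square (by norm_num)]
        decide +kernel
      · exact (mem_M11_iff.1 (mul_mem (inv_mem hh) hg)).2
    | succ i =>
      show x i ∈ _ ∧ (h⁻¹ * g) (x i) = x i
      refine ⟨(Finset.mem_erase.1 (hx i)).2, ?_⟩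
      rw [Equiv.Perm.mul_apply, he i]
      exact h.symm_apply_apply _
  have := M12_eq_one_of_fix (mem_M11_iff.1 (mul_mem (inv_mem hh) hg)).1 y (fun i => (hy i).1)
    fun i => (hy i).2
  exact (inv_mul_eq_one.1 this).symm

/-- The first four points of the base. -/
def four : Fin 4 ↪ GolayPt :=
  ⟨![idx ptEnc 1, idx ptEnc 2, idx ptEnc 3, idx ptEnc 4], by decide +kernel⟩

theorem four_mem : ∀ i, four i ∈ eleven := by
  intro i
  fin_cases i <;> exact (idx_mem_eleven (by norm_num)).2 (by decide +kernel)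

theorem swap_check : (((List.range swapList.length).all fun i =>
    m11OK (swapList.getD i 0) && m11OK (conjList.getD i 0) &&
      app (swapList.getD i 0) 1 == 1 && app (swapList.getD i 0) 2 == 3 &&
      app (swapList.getD i 0) 3 == 2 &&
      (!isId 24 (packMul 24 (swapList.getD i 0) (swapList.getD i 0)) ||
        samePack 24 (packMul 24 (conjList.getD i 0) (swapList.getD i 0))
          (packMul 24 invBase (conjList.getD i 0)))) &&
    ((List.range 24).all fun j => !(dodMask.testBit j && decide (4 ≤ j) || j == 4) ||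
      swapList.any fun l => app l 4 == j)) = true := by
  decide +kernel

/-- An involution of `M11` fixing the first base point and exchanging the next two is conjugate to
the reference one. -/
theorem exists_conj_of_swap {y : Equiv.Perm GolayPt} (hy : y ∈ Spor.M11) (hy2 : y * y = 1)
    (h1 : y (idx ptEnc 1) = idx ptEnc 1) (h2 : y (idx ptEnc 2) = idx ptEnc 3) :
    ∃ k ∈ Spor.M11, k * y * k⁻¹ = invPerm := by
  have hsq : ∀ p, y (y p) = p := fun p => by rw [← Equiv.Perm.mul_apply, hy2, Equiv.Perm.one_apply]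
  have h3 : y (idx ptEnc 3) = idx ptEnc 2 := by rw [← h2, hsq]
  have h := swap_check
  simp only [Bool.and_eq_true, List.all_eq_true, List.mem_range, beq_iff_eq, Bool.or_eq_true,
    Bool.not_eq_eq_eq_not, Bool.not_true, List.any_eq_true] at h
  obtain ⟨hl, hcover⟩ := h
  have he4 : y (idx ptEnc 4) ∈ eleven := M11_maps_eleven hy (four_mem 3)
  obtain ⟨j, hj⟩ : ∃ j, (ptEnc (y (idx ptEnc 4))).val = j := ⟨_, rfl⟩
  have hjlt : j < 24 := hj ▸ Fin.isLt _
  have hjv : idx ptEnc j = y (idx ptEnc 4) := hj ▸ idx_self _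
  rw [← hjv, idx_mem_eleven hjlt] at he4
  have hne : ∀ i : Fin 3, y (idx ptEnc 4) ≠ ![idx ptEnc 1, idx ptEnc 2, idx ptEnc 3] i := by
    intro i hi
    have := congrArg y hi
    rw [hsq] at this
    fin_cases i
    · exact absurd (this.trans h1) (by decide +kernel)
    · exact absurd (this.trans h2) (by decide +kernel)
    · exact absurd (this.trans h3) (by decide +kernel)
  have hj4 : 4 ≤ j := by
    by_contra hlt
    have : j = 1 ∨ j = 2 ∨ j = 3 := by omega
    rcases this with rfl | rfl | rfl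
    · exact hne 0 hjv.symm
    · exact hne 1 hjv.symm
    · exact hne 2 hjv.symm
  obtain ⟨l, hlm, hl4⟩ : ∃ l ∈ swapList, app l 4 = j := by
    rcases hcover j hjlt with hc | hc
    · simp [he4.2, hj4] at hc
    · exact hc
  obtain ⟨i, hi, rfl⟩ := List.getElem_of_mem hlm
  obtain ⟨⟨⟨⟨⟨hsw, hcj⟩, a1⟩, a2⟩, a3⟩, hconj⟩ := hl i hi
  rw [List.getD_eq_getElem _ _ hi] at hsw a1 a2 a3 hconj
  obtain ⟨σ, hσ, hr⟩ := exists_of_m11OK hsw
  obtain ⟨k, hk, hkr⟩ := exists_of_m11OK hcj
  have hyσ : y = σ := eq_of_four hy hσ four four_mem fun m => by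
    fin_cases m
    · show y (idx ptEnc 1) = σ (idx ptEnc 1)
      rw [h1, hr.apply_idx (by norm_num), a1]
    · show y (idx ptEnc 2) = σ (idx ptEnc 2)
      rw [h2, hr.apply_idx (by norm_num), a2]
    · show y (idx ptEnc 3) = σ (idx ptEnc 3)
      rw [h3, hr.apply_idx (by norm_num), a3]
    · show y (idx ptEnc 4) = σ (idx ptEnc 4)
      rw [← hjv, hr.apply_idx (by norm_num), hl4]
  subst hyσ
  refine ⟨k, hk, ?_⟩
  rcases hconj with hc | hc
  · exact absurd ((rep_packMul hr hr).isId_of_eq_one hy2) (by rw [hc]; simp)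
  · rw [mul_inv_eq_iff_eq_mul]
    exact ((rep_packMul hkr hr).of_same hc).unique (rep_packMul invPerm_spec.2 hkr)

/-- All involutions of `M11` are conjugate. -/
theorem exists_conj {y : Equiv.Perm GolayPt} (hy : y ∈ Spor.M11) (hy2 : y * y = 1) (hy1 : y ≠ 1) :
    ∃ k ∈ Spor.M11, k * y * k⁻¹ = invPerm := by
  classical
  have hsq : ∀ p, y (y p) = p := fun p => by rw [← Equiv.Perm.mul_apply, hy2, Equiv.Perm.one_apply]
  obtain ⟨b, hb, hyb⟩ : ∃ b ∈ eleven, y b ≠ b := by
    by_contra hall
    simp only [not_exists, not_and, not_not] at hall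
    exact hy1 (eq_of_four hy (one_mem _) four four_mem fun i => hall _ (four_mem i))
  obtain ⟨⟨a, ha⟩, hya⟩ : ∃ a : {p // p ∈ eleven},
      y.subtypePerm (p := fun p => p ∈ eleven)
        (fun p => ⟨fun h => hsq p ▸ M11_maps_eleven hy h, M11_maps_eleven hy⟩) a = a := by
    refine Equiv.Perm.exists_fixed_point_of_prime (p := 2) (n := 1) ?_ ?_
    · rw [Fintype.card_coe, show eleven.card = 11 by
        rw [eleven, squareDodecad_eq]; decide +kernel]
      norm_num
    · refine Equiv.ext fun ⟨p, hp⟩ => Subtype.ext ?_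
      rw [pow_one, pow_two, Equiv.Perm.mul_apply]
      exact hsq p
  have hya' : y a = a := congrArg Subtype.val hya
  have hab : a ≠ b := fun h => hyb (h ▸ hya')
  have hayb : a ≠ y b := fun h => hab (by rw [← hya', h, hsq])
  obtain ⟨g, hg, hgx⟩ := M11_exists_map (k := 3) (by norm_num)
    ⟨![a, b, y b], by
      intro i j; fin_cases i <;> fin_cases j <;>
        simp [hab, hab.symm, hayb, hayb.symm, hyb, Ne.symm hyb]⟩
    ⟨![idx ptEnc 1, idx ptEnc 2, idx ptEnc 3], by decide +kernel⟩
    (fun i => by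
      fin_cases i
      exacts [ha, hb, M11_maps_eleven hy hb])
    (fun i => by fin_cases i <;> exact (idx_mem_eleven (by norm_num)).2 (by decide +kernel))
  have g1 : g a = idx ptEnc 1 := hgx 0
  have g2 : g b = idx ptEnc 2 := hgx 1
  have g3 : g (y b) = idx ptEnc 3 := hgx 2
  obtain ⟨k, hk, he⟩ := exists_conj_of_swap (y := g * y * g⁻¹)
    (mul_mem (mul_mem hg hy) (inv_mem hg))
    (by rw [show g * y * g⁻¹ * (g * y * g⁻¹) = g * (y * y) * g⁻¹ by group, hy2]; group)
    (by rw [← g1, Equiv.Perm.mul_apply, Equiv.Perm.mul_apply,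
      show g⁻¹ (g a) = a from g.symm_apply_apply a, hya'])
    (by rw [← g2, Equiv.Perm.mul_apply, Equiv.Perm.mul_apply,
      show g⁻¹ (g b) = b from g.symm_apply_apply b, g3])
  exact ⟨k * g, mul_mem hk hg, by rw [← he]; group⟩

/-- The centraliser of the reference involution. -/
def cent : Subgroup (Equiv.Perm GolayPt) := Spor.M11 ⊓ Subgroup.centralizer {invPerm}

theorem mem_cent {g : Equiv.Perm GolayPt} :
    g ∈ cent ↔ g ∈ Spor.M11 ∧ g * invPerm = invPerm * g := by
  simp [cent, Subgroup.mem_centralizer_iff, eq_comm]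

theorem cent_apply {g : Equiv.Perm GolayPt} (hg : g ∈ cent) (x : GolayPt) :
    g (invPerm x) = invPerm (g x) :=
  Equiv.Perm.ext_iff.1 (mem_cent.1 hg).2 x

theorem invPerm_apply_iff {i j : ℕ} (hi : i < 24) (hj : j < 24) :
    invPerm (idx ptEnc i) = idx ptEnc j ↔ app invBase i = j := by
  rw [invPerm_spec.2.apply_idx hi]
  constructor
  · intro h
    have := congrArg (fun z => (ptEnc z).val) h
    simpa [idx_val hj, idx_val (invPerm_spec.2.app_lt hi)] using this
  · intro h; rw [h]

/-- The fixed points among the eleven. -/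
def fixedPts : Finset GolayPt := {idx ptEnc 1, idx ptEnc 4, idx ptEnc 12}

theorem fixed_iff {x : GolayPt} (hx : x ∈ eleven) : invPerm x = x ↔ x ∈ fixedPts := by
  have h : ∀ i : Fin 24, (i.val ≠ 0 ∧ dodMask.testBit i.val = true) →
      ((app invBase i.val == i.val) = true ↔ idx ptEnc i.val ∈ fixedPts) := by decide +kernel
  rw [← idx_self (e := ptEnc) x] at hx ⊢
  rw [invPerm_apply_iff (Fin.isLt _) (Fin.isLt _),
    ← h _ ((idx_mem_eleven (Fin.isLt _)).1 hx), beq_iff_eq]

/-- The images determining an element of the centraliser. -/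
def images : Finset (GolayPt × GolayPt × GolayPt) :=
  (fixedPts ×ˢ fixedPts ×ˢ (eleven \ fixedPts)).filter fun t => t.1 ≠ t.2.1

theorem card_images : images.card = 48 := by
  rw [images, eleven, squareDodecad_eq]
  decide +kernel

theorem card_cent_le : Nat.card cent ≤ 48 := by
  have e1 : idx ptEnc 1 ∈ eleven := (idx_mem_eleven (by norm_num)).2 (by decide +kernel)
  have e4 : idx ptEnc 4 ∈ eleven := (idx_mem_eleven (by norm_num)).2 (by decide +kernel)
  have e2 : idx ptEnc 2 ∈ eleven := (idx_mem_eleven (by norm_num)).2 (by decide +kernel)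
  have f1 : invPerm (idx ptEnc 1) = idx ptEnc 1 := (fixed_iff e1).2 (by decide +kernel)
  have f4 : invPerm (idx ptEnc 4) = idx ptEnc 4 := (fixed_iff e4).2 (by decide +kernel)
  have f2 : invPerm (idx ptEnc 2) ≠ idx ptEnc 2 := fun h =>
    absurd ((fixed_iff e2).1 h) (by decide +kernel)
  have f3 : invPerm (idx ptEnc 2) = idx ptEnc 3 :=
    (invPerm_apply_iff (by norm_num) (by norm_num)).2 (by decide +kernel)
  let f : cent → {t // t ∈ images} := fun h =>
    ⟨((h : Equiv.Perm GolayPt) (idx ptEnc 1), (h : Equiv.Perm GolayPt) (idx ptEnc 4),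
      (h : Equiv.Perm GolayPt) (idx ptEnc 2)), by
      have hm : (h : Equiv.Perm GolayPt) ∈ Spor.M11 := (mem_cent.1 h.2).1
      simp only [images, Finset.mem_filter, Finset.mem_product, Finset.mem_sdiff]
      refine ⟨⟨(fixed_iff (M11_maps_eleven hm e1)).1 (by rw [← cent_apply h.2, f1]),
        (fixed_iff (M11_maps_eleven hm e4)).1 (by rw [← cent_apply h.2, f4]),
        M11_maps_eleven hm e2, fun hf => f2 ?_⟩, ?_⟩
      · have := (fixed_iff (M11_maps_eleven hm e2)).2 hf
        rw [← cent_apply h.2] at this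
        exact (h : Equiv.Perm GolayPt).injective this
      · exact fun he => absurd ((h : Equiv.Perm GolayPt).injective he) (by decide +kernel)⟩
  have hf : Function.Injective f := by
    intro g h he
    have he' := congrArg Subtype.val he
    simp only [f, Prod.mk.injEq] at he'
    obtain ⟨a, b, c⟩ := he'
    refine Subtype.ext (eq_of_four (mem_cent.1 g.2).1 (mem_cent.1 h.2).1
      ⟨![idx ptEnc 1, idx ptEnc 4, idx ptEnc 2, idx ptEnc 3], by decide +kernel⟩
      (fun i => by fin_cases i <;> exact (idx_mem_eleven (by norm_num)).2 (by decide +kernel))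
      fun i => ?_)
    fin_cases i
    · exact a
    · exact b
    · exact c
    · show (g : Equiv.Perm GolayPt) (idx ptEnc 3) = (h : Equiv.Perm GolayPt) (idx ptEnc 3)
      rw [← f3, cent_apply g.2, cent_apply h.2, c]
  refine (Nat.card_le_card_of_injective f hf).trans ?_
  rw [Nat.card_eq_finsetCard, card_images]

/-- The point of a vector, as a set; the empty set for zero. -/
def vecSet (v : Fin 2 → ZMod 3) : Finset GolayPt := ptsOf (2 ^ vecPoint.getD (Quartet.vecIdx v) 0)

theorem cent_check : ∀ a b c d : ZMod 3, a * d - b * c ≠ 0 →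
    (m11OK (centTable.getD (Quartet.matIdx a b c d) 0) &&
      samePack 24 (packMul 24 (centTable.getD (Quartet.matIdx a b c d) 0) invBase)
        (packMul 24 invBase (centTable.getD (Quartet.matIdx a b c d) 0))) = true ∧
    ∀ v : Fin 2 → ZMod 3, mapsMask (centTable.getD (Quartet.matIdx a b c d) 0)
      (2 ^ vecPoint.getD (Quartet.vecIdx v) 0)
      (2 ^ vecPoint.getD (Quartet.vecIdx ![a * v 0 + b * v 1, c * v 0 + d * v 1]) 0) = true := by
  decide +kernel

theorem cent_equiv : Nonempty (cent ≃* GL (Fin 2) (ZMod 3)) := by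
  refine nonempty_equiv_of_intertwine cent vecSet (by decide +kernel) Set.univ
    Subgroup.closure_univ (fun k _ => ?_) (by rw [Quartet.card_GL23]; exact card_cent_le)
  set M : Matrix (Fin 2) (Fin 2) (ZMod 3) := (k : Matrix (Fin 2) (Fin 2) (ZMod 3)) with hM
  have hdet : M 0 0 * M 1 1 - M 0 1 * M 1 0 ≠ 0 := by
    rw [← Matrix.det_fin_two]
    exact ((Matrix.isUnit_iff_isUnit_det _).1 k.isUnit).ne_zero
  obtain ⟨hok, hall⟩ := cent_check _ _ _ _ hdet
  rw [Bool.and_eq_true] at hok
  obtain ⟨σ, hσ, hr⟩ := exists_of_m11OK hok.1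
  refine ⟨σ, mem_cent.2 ⟨hσ, ((rep_packMul hr invPerm_spec.2).of_same hok.2).unique
    (rep_packMul invPerm_spec.2 hr)⟩, fun v => ?_⟩
  have : k • v = ![M 0 0 * v 0 + M 0 1 * v 1, M 1 0 * v 0 + M 1 1 * v 1] := by
    show M *ᵥ v = _
    ext i
    fin_cases i <;> simp [Matrix.mulVec, dotProduct, Fin.sum_univ_two]
  rw [this]
  exact smul_ptsOf hr (hall v)

end Cfsg.Agent.Mathieu.Involution
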