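import Cfsg.Agent.Lib.Mathieu.Dodecad.Tools
import Cfsg.Agent.Lib.Mathieu.Sift
import Cfsg.Agent.Lib.Perm.Mobius
import Cfsg.Agent.Lib.Mathieu.Dodecad.LinearElevenData

/-!
The stabiliser in `M11` of a point outside the dodecad is `PSL(2, 11)`.
-/

set_option autoImplicit false
set_option maxRecDepth 20000

namespace Cfsg.Agent.Mathieu.LinearEleven

open Cfsg
open scoped Pointwise MatrixGroups Matrix

theorem fact_eleven : Fact (Nat.Prime 11) := ⟨by norm_num⟩

/-- Numbering of the projective line. -/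
def lineEnc : Option (ZMod 11) ≃ Fin 12 where
  toFun p := match p with
    | none => 11
    | some x => ⟨x.val, lt_trans x.val_lt (by norm_num)⟩
  invFun i := if h : i.val < 11 then some (⟨i.val, h⟩ : Fin 11) else none
  left_inv := by decide +kernel
  right_inv := by decide +kernel

/-- The group of fractional linear maps generated by translation and inversion. -/
def lineGroup : Subgroup (Equiv.Perm (Option (ZMod 11))) := genGroup lineEnc lineGens

theorem line_check : (lineGens.all (permOK 12) && slpOK 12 lineGens lineSlp &&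
    ((allReps lineLevels).all fun t => (lineGens ++ lineSlp.map fun s => s.1).contains t) &&
    levelsOK 12 [] lineLevels && idRepOK 12 lineLevels && closedOK 12 lineLevels &&
    lineGens.all (fun l => sift 12 lineLevels l) &&
    (lineLevels.map fun p => p.2.1.length).prod == 660) = true := by
  decide +kernel

theorem card_lineGroup : Nat.card lineGroup = 660 := by
  have h := line_check
  simp only [Bool.and_eq_true, beq_iff_eq] at h
  obtain ⟨⟨⟨⟨⟨⟨⟨h1, h2⟩, h3⟩, h4⟩, h5⟩, h6⟩, h7⟩, h8⟩ := h
  rw [lineGroup, genGroup]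
  refine ((closure_cert (by norm_num) (by decide +kernel) h4 h5 h6 (reps_genGroup h1 h2 h3)
    fun σ ⟨l, hl, hr⟩ => ⟨l, hr, List.all_eq_true.1 h7 l hl⟩).2).trans h8

theorem gen_check : (lineGens.length == 2 &&
    ((List.range 11).all fun x => app (lineGens.getD 0 0) x == (x + 1) % 11 &&
      (x == 0 || (app (lineGens.getD 1 0) x + x ^ 9) % 11 == 0 && decide (app (lineGens.getD 1 0) x < 11))) &&
    app (lineGens.getD 0 0) 11 == 11 && app (lineGens.getD 1 0) 11 == 0 &&
    app (lineGens.getD 1 0) 0 == 11) = true := by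
  decide +kernel

theorem two_ne_zero_eleven : (2 : ZMod 11) ≠ 0 := by decide +kernel

theorem line_equiv_PSL :
    Nonempty (lineGroup ≃* Matrix.ProjectiveSpecialLinearGroup (Fin 2) (ZMod 11)) := by
  haveI := fact_eleven
  have hg := gen_check
  simp only [Bool.and_eq_true, beq_iff_eq, List.all_eq_true, List.mem_range, Bool.or_eq_true,
    decide_eq_true_eq] at hg
  obtain ⟨⟨⟨⟨hlen, hall⟩, hT0⟩, hW0⟩, hW1⟩ := hg
  have hperm : ∀ i < 2, ∃ σ ∈ lineGroup, Rep lineEnc σ (lineGens.getD i 0) := fun i hi => by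
    have hi' : i < lineGens.length := hlen.symm ▸ hi
    rw [List.getD_eq_getElem _ _ hi']
    have h := line_check
    simp only [Bool.and_eq_true, List.all_eq_true] at h
    obtain ⟨σ, hσ⟩ := exists_rep (e := lineEnc) (h.1.1.1.1.1.1.1 _ (List.getElem_mem hi'))
    exact ⟨σ, Subgroup.subset_closure ⟨_, List.getElem_mem hi', hσ⟩, hσ⟩
  obtain ⟨T, hT, hTr⟩ := hperm 0 (by norm_num)
  obtain ⟨W, hW, hWr⟩ := hperm 1 (by norm_num)
  have hsome : ∀ x : ZMod 11, (lineEnc (some x)).val = x.val := fun _ => rfl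
  have hnone : (lineEnc (none : Option (ZMod 11))).val = 11 := rfl
  have eq_of_val : ∀ {a b : Option (ZMod 11)}, (lineEnc a).val = (lineEnc b).val → a = b :=
    fun h => lineEnc.injective (Fin.ext h)
  have hTs : ∀ x : ZMod 11, T (some x) = some (x + 1) := fun x => eq_of_val (by
    rw [hTr, hsome, hsome, (hall _ x.val_lt).1, ZMod.val_add]
    rfl)
  have hTn : T none = none := eq_of_val (by rw [hTr, hnone, hT0])
  have hWn : W none = some 0 := eq_of_val (by rw [hWr, hnone, hW0]; rfl)
  have hW0' : W (some 0) = none := eq_of_val (by rw [hWr, hsome, hnone]; exact hW1)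
  have hWs : ∀ x : ZMod 11, x ≠ 0 → W (some x) = some (-x⁻¹) := fun x hx => by
    rcases (hall _ x.val_lt).2 with h | ⟨h, hlt⟩
    · exact absurd ((ZMod.val_eq_zero x).1 h) hx
    · refine eq_of_val ?_
      rw [hWr, hsome, hsome, ← ZMod.val_natCast_of_lt hlt]
      congr 1
      have h0 : ((app (lineGens.getD 1 0) x.val + x.val ^ 9 : ℕ) : ZMod 11) = 0 :=
        (ZMod.natCast_eq_zero_iff _ 11).2 (Nat.dvd_of_mod_eq_zero h)
      push_cast at h0
      rw [ZMod.natCast_zmod_val] at h0
      have hx9 : x ^ 9 = x⁻¹ := by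
        refine eq_inv_of_mul_eq_one_left ?_
        rw [← pow_succ]
        exact ZMod.pow_card_sub_one_eq_one hx
      rw [hx9] at h0
      exact eq_neg_of_add_eq_zero_left h0
  have hTpow : ∀ n : ℕ, (T ^ n) none = none ∧ ∀ x : ZMod 11, (T ^ n) (some x) = some (x + n) := by
    intro n
    induction n with
    | zero => exact ⟨rfl, fun x => by simp⟩
    | succ n ih =>
      refine ⟨by rw [pow_succ', Equiv.Perm.mul_apply, ih.1, hTn], fun x => ?_⟩
      rw [pow_succ', Equiv.Perm.mul_apply, ih.2, hTs, Nat.cast_succ, add_assoc]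
  refine Perm.Mobius.nonempty_mulEquiv_PSL (G := lineGroup) (F := ZMod 11)
    (pt := (id : Option (ZMod 11) → Option (ZMod 11))) Function.bijective_id
    two_ne_zero_eleven
    (fun c => ⟨⟨T ^ c.val, pow_mem hT _⟩, fun v hv => ?_⟩) ⟨⟨W, hW⟩, fun v hv => ?_⟩ ?_
  · have h1 : (!![(1 : ZMod 11), c; 0, 1] *ᵥ v) 1 = v 1 := by
      simp [Matrix.mulVec, dotProduct, Fin.sum_univ_two]
    show (T ^ c.val) _ = _
    by_cases h : v 1 = 0
    · rw [Perm.Mobius.mob_inf id h, Perm.Mobius.mob_inf id (h1.trans h)]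
      exact (hTpow _).1
    · rw [Perm.Mobius.mob_fin id h, Perm.Mobius.mob_fin id (by rw [h1]; exact h), id, id,
        (hTpow _).2, ZMod.natCast_zmod_val, h1]
      simp [Matrix.mulVec, dotProduct, Fin.sum_univ_two, add_div, h]
  · have h0 : (!![(0 : ZMod 11), -1; 1, 0] *ᵥ v) 0 = -v 1 := by
      simp [Matrix.mulVec, dotProduct, Fin.sum_univ_two]
    have h1 : (!![(0 : ZMod 11), -1; 1, 0] *ᵥ v) 1 = v 0 := by
      simp [Matrix.mulVec, dotProduct, Fin.sum_univ_two]
    show W _ = _
    by_cases h : v 1 = 0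
    · have hv0 : v 0 ≠ 0 := fun e => hv (by ext i; fin_cases i <;> simp [e, h])
      rw [Perm.Mobius.mob_inf id h, Perm.Mobius.mob_fin id (by rw [h1]; exact hv0), id, id, hWn, h0, h]
      simp
    · rw [Perm.Mobius.mob_fin id h, id]
      by_cases hv0 : v 0 = 0
      · rw [Perm.Mobius.mob_inf id (h1.trans hv0), id, hv0, zero_div, hW0']
      · rw [Perm.Mobius.mob_fin id (by rw [h1]; exact hv0), id, hWs _ (div_ne_zero hv0 h), h0, h1,
          inv_div, neg_div]
  · rw [card_lineGroup, ZMod.card]
    norm_num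

/-- The stabiliser in `M11` of a point outside the dodecad. -/
def outStab : Subgroup (Equiv.Perm GolayPt) :=
  Spor.M11 ⊓ MulAction.stabilizer (Equiv.Perm GolayPt) (idx ptEnc 5)

/-- The twelve objects as a function on the projective line. -/
def lineObj (x : Option (ZMod 11)) : Finset (Finset GolayPt) :=
  famPts (lineObjs.getD (lineEnc x).val [])

theorem lift_check : (lineLifts.length == 2 && lineGens.length == 2 && lineObjs.all famOK &&
    lineObjs.length == 12 &&
    ((List.range 2).all fun i => m11OK (lineLifts.getD i 0) && app (lineLifts.getD i 0) 5 == 5 &&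
      (List.range 12).all fun x => mapsFam (lineLifts.getD i 0) (lineObjs.getD x [])
        (lineObjs.getD (app (lineGens.getD i 0) x) [])) &&
    ((List.range 12).all fun i => (List.range 12).all fun j => i == j ||
      (lineObjs.getD i []).any fun a => !(lineObjs.getD j []).contains a)) = true := by
  decide +kernel

theorem outStab_equiv :
    Nonempty (outStab ≃* Matrix.ProjectiveSpecialLinearGroup (Fin 2) (ZMod 11)) := by
  obtain ⟨e⟩ := line_equiv_PSL
  have h := lift_check
  simp only [Bool.and_eq_true, beq_iff_eq, List.all_eq_true, List.mem_range, Bool.or_eq_true,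
    List.any_eq_true, Bool.not_eq_eq_eq_not, Bool.not_true] at h
  obtain ⟨⟨⟨⟨⟨hl1, hl2⟩, hok⟩, hlen⟩, hlift⟩, hkeys⟩ := h
  have hmem : ∀ x : Option (ZMod 11), lineObjs.getD (lineEnc x).val [] ∈ lineObjs := fun x => by
    have hlt : (lineEnc x).val < lineObjs.length := hlen.symm ▸ Fin.isLt _
    rw [List.getD_eq_getElem _ _ hlt]
    exact List.getElem_mem hlt
  have hinj : Function.Injective lineObj := by
    intro x y hxy
    apply lineEnc.injective
    apply Fin.ext
    rcases hkeys _ (lineEnc x).isLt _ (lineEnc y).isLt with h | ⟨a, ha, hna⟩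
    · exact h
    · have hp := (perm_of_famPts_eq (hok _ (hmem x)) (hok _ (hmem y)) hxy).mem_iff.1 ha
      exact absurd (List.contains_iff_mem.2 hp) (by rw [hna]; simp)
  have hS : Subgroup.closure
      (((↑) : lineGroup → Equiv.Perm (Option (ZMod 11))) ⁻¹'
        {σ | ∃ l ∈ lineGens, Rep lineEnc σ l}) = ⊤ :=
    Subgroup.closure_closure_coe_preimage
  have hlift' : ∀ k ∈ (((↑) : lineGroup → Equiv.Perm (Option (ZMod 11))) ⁻¹'
        {σ | ∃ l ∈ lineGens, Rep lineEnc σ l}), ∃ g ∈ outStab, ∀ x, g • lineObj x = lineObj (k • x) := by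
    rintro k ⟨l, hl, hr⟩
    obtain ⟨i, hi, rfl⟩ := List.getElem_of_mem hl
    obtain ⟨⟨h11, h5⟩, hmaps⟩ := hlift i (by omega)
    obtain ⟨σ, hσ, hσr⟩ := exists_of_m11OK h11
    refine ⟨σ, ⟨hσ, ?_⟩, fun x => ?_⟩
    · show σ (idx ptEnc 5) = idx ptEnc 5
      rw [hσr.apply_idx (by norm_num), h5]
    · refine famPts_smul hσr (hok _ (hmem x)) ?_
      show mapsFam _ _ (lineObjs.getD (lineEnc ((k : Equiv.Perm (Option (ZMod 11))) x)).val []) = true
      rw [hr x]
      have := hmaps (lineEnc x).val (Fin.isLt _)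
      rwa [List.getD_eq_getElem _ _ hi] at this
  have hle : Nat.card outStab ≤ Nat.card lineGroup := by
    rw [card_lineGroup]
    have hC : (Spor.squareDodecadᶜ).card = 12 := by rw [squareDodecad_eq]; decide +kernel
    have h := card_inf_stabilizer_mul_le Spor.M11 (idx ptEnc 5) (Spor.squareDodecadᶜ : Finset GolayPt)
      (fun y hy => ?_)
    · rw [Set.ncard_coe_finset, hC, card_M11] at h
      rw [outStab]
      omega
    · obtain ⟨g, hg, hgx⟩ := M11_exists_map_compl (k := 1) (by norm_num)
        ⟨fun _ => idx ptEnc 5, Function.injective_of_subsingleton _⟩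
        ⟨fun _ => y, Function.injective_of_subsingleton _⟩
        (fun _ => (idx_mem_square (by norm_num)).not.2 (by decide +kernel))
        (fun _ => Finset.mem_compl.1 (Finset.mem_coe.1 hy))
      exact ⟨g, hg, hgx 0⟩
  obtain ⟨f⟩ := nonempty_equiv_of_intertwine outStab lineObj hinj _ hS hlift' hle
  exact ⟨f.trans e⟩

end Cfsg.Agent.Mathieu.LinearEleven
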