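import Cfsg.Agent.S1592
import Cfsg.Agent.S1593
import Cfsg.Agent.Lib.Hexad12.Aut
import Cfsg.Agent.Lib.Mathieu.Sift
import Cfsg.Agent.Lib.Mathieu.Dodecad.MonomialData

/-!
The monomial group of the ternary code of length twelve: the permutation parts are the
automorphisms of the hexad system, each with exactly two sign vectors.
-/

set_option autoImplicit false
set_option maxRecDepth 20000

namespace Cfsg.Agent.Mathieu.Monomial

open Cfsg
open scoped Pointwise

/-- Numbering of the twelve positions. -/
def posEnc : ArrayPt ≃ Fin 12 where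
  toFun p := ⟨3 * p.1.val + p.2.val, by
    have := p.1.isLt
    have := ZMod.val_lt p.2
    omega⟩
  invFun k := (⟨k.val / 3, by omega⟩, ((k.val : ℕ) : ZMod 3))
  left_inv := by decide +kernel
  right_inv := by decide +kernel

/-- Preserving the code. -/
def Keeps (σ : Equiv.Perm ArrayPt) (c : ArrayPt → (ZMod 3)ˣ) : Prop :=
  ∀ x ∈ ternaryGolayCode, monomialMap σ c x ∈ ternaryGolayCode

theorem keeps_one : Keeps 1 1 := fun x hx => by
  rw [show monomialMap (1 : Equiv.Perm ArrayPt) (1 : ArrayPt → (ZMod 3)ˣ) x = x from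
    funext fun p => by
      simp [monomialMap, Equiv.Perm.one_def]]
  exact hx

theorem Keeps.mul {σ τ : Equiv.Perm ArrayPt} {c d : ArrayPt → (ZMod 3)ˣ} (h : Keeps σ c)
    (h' : Keeps τ d) : Keeps (σ * τ) (fun p => c p * d (σ.symm p)) := fun x hx => by
  rw [show monomialMap (σ * τ) (fun p => c p * d (σ.symm p)) x =
    monomialMap σ c (monomialMap τ d x) from funext fun p => by
      simp [monomialMap, Equiv.Perm.mul_def, mul_assoc]]
  exact h _ (h' x hx)

/-- The permutation parts. -/
def permParts : Subgroup (Equiv.Perm ArrayPt) where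
  carrier := {σ | ∃ c, Keeps σ c}
  one_mem' := ⟨1, keeps_one⟩
  mul_mem' := by
    rintro σ τ ⟨c, hc⟩ ⟨d, hd⟩
    exact ⟨_, hc.mul hd⟩
  inv_mem' := by
    rintro σ ⟨c, hc⟩
    have hpow : ∀ n : ℕ, ∃ d, Keeps (σ ^ n) d := by
      intro n
      induction n with
      | zero => exact ⟨1, keeps_one⟩
      | succ n ih => obtain ⟨d, hd⟩ := ih; exact ⟨_, by rw [pow_succ]; exact hd.mul hc⟩
    obtain ⟨d, hd⟩ := hpow (orderOf σ - 1)
    refine ⟨d, ?_⟩
    rwa [inv_eq_of_mul_eq_one_right (b := σ ^ (orderOf σ - 1))]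
    rw [← pow_succ', Nat.sub_add_cancel (orderOf_pos σ), pow_orderOf_eq_one]

/-- The system of hexads. -/
def hexSys : Set (Finset ArrayPt) :=
  {h | ∃ x ∈ ternaryGolayCode, ternarySupport x = h ∧ h.card = 6}

theorem smul_support (σ : Equiv.Perm ArrayPt) (c : ArrayPt → (ZMod 3)ˣ) (x : ArrayPt → ZMod 3) :
    ternarySupport (monomialMap σ c x) = σ • ternarySupport x := by
  ext p
  obtain ⟨q, rfl⟩ := σ.surjective p
  rw [show σ q = σ • q from rfl, Finset.smul_mem_smul_finset_iff]
  simp [ternarySupport, monomialMap, Equiv.Perm.smul_def]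

theorem permParts_le : permParts ≤ setSystemAut hexSys := by
  rintro σ ⟨c, hc⟩
  rw [MulAction.mem_stabilizer_iff]
  refine Set.eq_of_subset_of_ncard_le ?_ (by rw [Set.ncard_smul_set]) (Set.toFinite _)
  rintro _ ⟨h, ⟨x, hx, hs, h6⟩, rfl⟩
  exact ⟨_, hc x hx, by rw [smul_support, hs], by simp only [Finset.card_smul_finset, h6]⟩

theorem card_aut : Nat.card (setSystemAut hexSys) = 95040 := by
  obtain ⟨⟨e⟩, -⟩ := Hexad12.aut_12 (B := hexSys) (by decide +kernel) S1592.result.1
  rw [Nat.card_congr e.toEquiv, card_M12]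

/-- The word with its positions permuted and signs attached. -/
def genImage (l m : ℕ) (a : Fin 6 → ZMod 3) (k : Fin 12) : ZMod 3 :=
  (if m.testBit k.val then 2 else 1) *
    ((List.range 12).foldl (fun acc i => if app l i == k.val then
      S1590.word a (posEnc.symm (Fin.ofNat 12 i)) else acc) 0)

/-- The signs of a mask. -/
def signs (m : ℕ) (p : ArrayPt) : (ZMod 3)ˣ := if m.testBit (posEnc p).val then -1 else 1

theorem gen_check : ∀ i : Fin 2, permOK 12 (monGens.getD i.val 0) = true ∧
    ∀ a : Fin 6 → ZMod 3, ∀ k : Fin 12,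
      S1590.word (S1590.info fun p => genImage (monGens.getD i.val 0) (monSigns.getD i.val 0) a
        (posEnc p)) (posEnc.symm k) =
      genImage (monGens.getD i.val 0) (monSigns.getD i.val 0) a k := by
  decide +kernel

theorem gens_mem : ∀ σ, ∀ l ∈ monGens, Rep posEnc σ l → σ ∈ permParts := by
  intro σ l hl hr
  obtain ⟨i, hi, rfl⟩ := List.getElem_of_mem hl
  have hlen : monGens.length = 2 := by decide +kernel
  obtain ⟨-, hall⟩ := gen_check ⟨i, hlen ▸ hi⟩
  rw [show monGens.getD i 0 = monGens[i] from List.getD_eq_getElem _ _ hi] at hall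
  refine ⟨signs (monSigns.getD i 0), fun x hx => ?_⟩
  obtain ⟨a, rfl⟩ : ∃ a, S1590.word a = x := ⟨S1590.info x, (S1590.mem_iff x).1 hx⟩
  have himg : ∀ p, monomialMap σ (signs (monSigns.getD i 0)) (S1590.word a) p =
      genImage monGens[i] (monSigns.getD i 0) a (posEnc p) := by
    intro p
    obtain ⟨q, rfl⟩ := σ.surjective p
    have hone : ∀ j < 12, app monGens[i] j = (posEnc (σ q)).val → j = (posEnc q).val := by
      intro j hj he
      have h2 := hr (posEnc.symm ⟨j, hj⟩)
      rw [Equiv.apply_symm_apply, he] at h2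
      have := σ.injective (posEnc.injective (Fin.ext h2))
      rw [← this, Equiv.apply_symm_apply]
    have hfold : ∀ (L : List ℕ) (acc : ZMod 3), (∀ j ∈ L, j < 12) →
        ((posEnc q).val ∈ L ∨ acc = S1590.word a q) →
        L.foldl (fun acc j => if app monGens[i] j == (posEnc (σ q)).val then
          S1590.word a (posEnc.symm (Fin.ofNat 12 j)) else acc) acc = S1590.word a q := by
      intro L
      induction L with
      | nil => intro acc _ h; simpa using h
      | cons j L ih =>
        intro acc hb h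
        rw [List.foldl_cons]
        refine ih _ (fun k hk => hb k (List.mem_cons_of_mem _ hk)) ?_
        by_cases hj : app monGens[i] j = (posEnc (σ q)).val
        · right
          rw [if_pos (beq_iff_eq.2 hj), hone j (hb j List.mem_cons_self) hj]
          simp
        · rw [if_neg (fun h' => hj (beq_iff_eq.1 h'))]
          rcases h with h | h
          · rcases List.mem_cons.1 h with rfl | h
            · exact absurd (hr q).symm hj
            · exact Or.inl h
          · exact Or.inr h
    rw [genImage, hfold _ 0 (fun j hj => List.mem_range.1 hj)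
      (Or.inl (List.mem_range.2 (Fin.isLt _)))]
    simp only [monomialMap, Equiv.symm_apply_apply, signs]
    congr 1
    split <;> rfl
  refine (S1590.mem_iff _).2 (funext fun p => ?_)
  have := hall a (posEnc p)
  rw [Equiv.symm_apply_apply] at this
  rw [himg p, ← this]
  congr 2
  exact funext himg

theorem levels_check : (monGens.all (permOK 12) && slpOK 12 monGens monSlp &&
    ((allReps monLevels).all fun t => (monGens ++ monSlp.map fun s => s.1).contains t) &&
    levelsOK 12 [] monLevels && idRepOK 12 monLevels && closedOK 12 monLevels &&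
    monGens.all (fun l => sift 12 monLevels l) &&
    (monLevels.map fun p => p.2.1.length).prod == 95040) = true := by
  decide +kernel

theorem permParts_eq : permParts = setSystemAut hexSys := by
  refine Subgroup.eq_of_le_of_card_ge permParts_le ?_
  have h := levels_check
  simp only [Bool.and_eq_true, beq_iff_eq] at h
  obtain ⟨⟨⟨⟨⟨⟨⟨h1, h2⟩, h3⟩, h4⟩, h5⟩, h6⟩, h7⟩, h8⟩ := h
  have hc : Nat.card (genGroup posEnc monGens) = 95040 := by
    rw [genGroup]
    exact ((closure_cert (by norm_num) (by decide +kernel) h4 h5 h6 (reps_genGroup h1 h2 h3)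
      fun σ ⟨l, hl, hr⟩ => ⟨l, hr, List.all_eq_true.1 h7 l hl⟩).2).trans h8
  rw [card_aut, ← hc]
  exact Subgroup.card_le_of_le (genGroup_le fun σ l hl hr => gens_mem σ l hl hr)

theorem Keeps.unique_up_to_sign {σ : Equiv.Perm ArrayPt} {c c' : ArrayPt → (ZMod 3)ˣ}
    (h : Keeps σ c) (h' : Keeps σ c') : c' = c ∨ c' = fun p => -c p := by
  have hq : Keeps 1 fun p => c' p * (c p)⁻¹ := by
    intro y hy
    let f : {x // x ∈ ternaryGolayCode} → {x // x ∈ ternaryGolayCode} := fun x =>
      ⟨monomialMap σ c x.1, h x.1 x.2⟩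
    have hf : Function.Injective f := by
      intro a b hab
      refine Subtype.ext (funext fun p => ?_)
      have := congrFun (congrArg Subtype.val hab) (σ p)
      simpa [f, monomialMap] using this
    obtain ⟨⟨x, hx⟩, he⟩ := (Finite.injective_iff_surjective.1 hf) ⟨y, hy⟩
    have he' : monomialMap σ c x = y := congrArg Subtype.val he
    rw [← he', show monomialMap (1 : Equiv.Perm ArrayPt) (fun p => c' p * (c p)⁻¹)
      (monomialMap σ c x) = monomialMap σ c' x from funext fun p => ?_]
    · exact h' x hx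
    · show (((c' p * (c p)⁻¹ : (ZMod 3)ˣ)) : ZMod 3) * ((c p : ZMod 3) * x (σ.symm p)) =
        (c' p : ZMod 3) * x (σ.symm p)
      rw [← mul_assoc, ← Units.val_mul, inv_mul_cancel_right]
  rcases S1593.result _ hq with h1 | h1
  · exact Or.inl (funext fun p => mul_inv_eq_one.1 (h1 p))
  · exact Or.inr (funext fun p => by rw [mul_inv_eq_iff_eq_mul.1 (h1 p), neg_one_mul])

theorem neg_keeps {σ : Equiv.Perm ArrayPt} {c : ArrayPt → (ZMod 3)ˣ} (h : Keeps σ c) :
    Keeps σ fun p => -c p := fun x hx => by
  rw [show monomialMap σ (fun p => -c p) x = -monomialMap σ c x from funext fun p => by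
    simp [monomialMap]]
  exact neg_mem (h x hx)

theorem card_monomial : Nat.card {f : Equiv.Perm ArrayPt × (ArrayPt → (ZMod 3)ˣ) // Keeps f.1 f.2} =
    2 * Nat.card permParts := by
  classical
  choose c hc using fun σ : permParts => σ.2
  let F : Bool × permParts →
      {f : Equiv.Perm ArrayPt × (ArrayPt → (ZMod 3)ˣ) // Keeps f.1 f.2} := fun z =>
    if z.1 then ⟨(z.2.1, fun p => -c z.2 p), neg_keeps (hc z.2)⟩
    else ⟨(z.2.1, c z.2), hc z.2⟩
  have hF : Function.Bijective F := by
    constructor
    · rintro ⟨b, σ⟩ ⟨b', σ'⟩ h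
      have h' := congrArg Subtype.val h
      have hσ : σ = σ' := by
        refine Subtype.ext ?_
        cases b <;> cases b' <;> exact congrArg Prod.fst h'
      subst hσ
      have hne : ∀ u : (ZMod 3)ˣ, -u ≠ u := by decide
      cases b <;> cases b'
      · rfl
      · exact absurd (congrFun (congrArg Prod.snd h') (0, 0)).symm (hne _)
      · exact absurd (congrFun (congrArg Prod.snd h') (0, 0)) (hne _)
      · rfl
    · rintro ⟨⟨σ, d⟩, hd⟩
      have hd' : Keeps σ d := hd
      rcases (hc ⟨σ, d, hd'⟩).unique_up_to_sign hd' with he | he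
      · exact ⟨(false, ⟨σ, d, hd'⟩), Subtype.ext (Prod.ext rfl he.symm)⟩
      · exact ⟨(true, ⟨σ, d, hd'⟩), Subtype.ext (Prod.ext rfl he.symm)⟩
  rw [← Nat.card_eq_of_bijective F hF, Nat.card_prod, Nat.card_eq_fintype_card (α := Bool),
    Fintype.card_bool]

end Cfsg.Agent.Mathieu.Monomial
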