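import Cfsg.Agent.Lib.Mathieu.Dodecad.Tools
import Cfsg.Agent.Lib.Mathieu.Stab.OctadGroup
import Cfsg.Agent.Lib.Mathieu.Dodecad.OctadRankData

/-!
Stabilisers of an octad and of one or two points: the orbits on the octads with prescribed
incidence to the points are given by the number of points common with the reference octad.
-/

set_option autoImplicit false
set_option maxRecDepth 20000
set_option linter.unusedSimpArgs false

namespace Cfsg.Agent.Mathieu.OctRank

open Cfsg
open scoped Pointwise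

/-- The incidence condition on masks. -/
def inDom (ins outs : List ℕ) (m : ℕ) : Bool :=
  (ins.all fun i => m.testBit i) && outs.all fun i => !m.testBit i

/-- The incidence condition. -/
def Dom (ins outs : List ℕ) (s : Finset GolayPt) : Prop :=
  (∀ i ∈ ins, idx ptEnc i ∈ s) ∧ ∀ i ∈ outs, idx ptEnc i ∉ s

theorem dom_iff {ins outs : List ℕ} (hlt : ∀ i ∈ ins ++ outs, i < 24) (m : ℕ) :
    Dom ins outs (ptsOf m) ↔ inDom ins outs m = true := by
  have h : ∀ i ∈ ins ++ outs, idx ptEnc i ∈ ptsOf m ↔ m.testBit i = true := fun i hi => by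
    rw [mem_ptsOf, hasPt, idx_val (hlt i hi)]
  simp only [Dom, inDom, Bool.and_eq_true, List.all_eq_true, Bool.not_eq_eq_eq_not, Bool.not_true]
  refine and_congr (forall₂_congr fun i hi => h i (List.mem_append_left _ hi))
    (forall₂_congr fun i hi => ?_)
  rw [h i (List.mem_append_right _ hi), Bool.not_eq_true]

/-- The octads with the incidence meeting the reference octad in `k` points. -/
def classList (ins outs : List ℕ) (k : ℕ) : List ℕ :=
  (maskList 8).filter fun m => inDom ins outs m && popc 24 (octBase &&& m) == k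

/-- A packed element of the stabiliser. -/
def genOK (ins outs : List ℕ) (l : ℕ) : Bool :=
  permOK 24 l && presCode l && mapsMask l octBase octBase &&
    ((ins ++ outs).all fun i => decide (i < 24) && app l i == i)

/-- The check of one class. -/
def classOK (ins outs gens : List ℕ) (hd : ℕ) (steps : List (ℕ × ℕ × ℕ)) (k : ℕ) : Bool :=
  gens.all (genOK ins outs) && decide (hd < 2 ^ 24) && treeOK maskKind gens [hd] steps &&
    ((classList ins outs k).all fun m => (hd :: steps.map fun s => s.2.2).contains m)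

theorem class_map {ins outs gens : List ℕ} {hd : ℕ} {steps : List (ℕ × ℕ × ℕ)} {k : ℕ}
    (hc : classOK ins outs gens hd steps k = true) (hlt : ∀ i ∈ ins ++ outs, i < 24)
    {o' o'' : Finset GolayPt} (ho' : o' ∈ octads) (ho'' : o'' ∈ octads)
    (hd' : Dom ins outs o') (hd'' : Dom ins outs o'') (hk' : (ptsOf octBase ∩ o').card = k)
    (hk'' : (ptsOf octBase ∩ o'').card = k) :
    ∃ g ∈ M24, g • ptsOf octBase = ptsOf octBase ∧
      (∀ i ∈ ins ++ outs, g (idx ptEnc i) = idx ptEnc i) ∧ g • o' = o'' := by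
  simp only [classOK, Bool.and_eq_true, List.all_eq_true, decide_eq_true_eq,
    List.contains_iff_mem] at hc
  obtain ⟨⟨⟨hg, hhd⟩, htree⟩, hall⟩ := hc
  let H : Subgroup (Equiv.Perm GolayPt) :=
    fixList (M24 ⊓ MulAction.stabilizer (Equiv.Perm GolayPt) (ptsOf octBase))
      ((ins ++ outs).map (idx ptEnc))
  have hgen : ∀ l ∈ gens, ∃ σ ∈ H, Rep ptEnc σ l := by
    intro l hl
    have h := hg l hl
    simp only [genOK, Bool.and_eq_true, List.all_eq_true, decide_eq_true_eq, beq_iff_eq] at h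
    obtain ⟨⟨⟨h1, h2⟩, h3⟩, h4⟩ := h
    obtain ⟨σ, hσ⟩ := exists_rep (e := ptEnc) h1
    refine ⟨σ, mem_fixList.2 ⟨⟨mem_M24_of_rep hσ h2, smul_ptsOf hσ h3⟩, fun b hb => ?_⟩, hσ⟩
    obtain ⟨i, hi, rfl⟩ := List.mem_map.1 hb
    rw [hσ.apply_idx (h4 i hi).1, (h4 i hi).2]
  obtain ⟨m', hm', rfl⟩ := mem_octads_iff.1 ho'
  obtain ⟨m'', hm'', rfl⟩ := mem_octads_iff.1 ho''
  rw [← ptsOf_and, card_ptsOf] at hk' hk''
  have hmem : ∀ m ∈ maskList 8, Dom ins outs (ptsOf m) → popc 24 (octBase &&& m) = k →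
      m ∈ hd :: steps.map fun s => s.2.2 := fun m hm hD hK =>
    hall m (List.mem_filter.2 ⟨hm, by rw [(dom_iff hlt m).1 hD, hK]; simp⟩)
  obtain ⟨σ, hσ, he⟩ := exists_map_of_tree hgen (k := maskKind)
    (show decide (hd < 2 ^ 24) = true from decide_eq_true hhd) htree _ (hmem m' hm' hd' hk') _
    (hmem m'' hm'' hd'' hk'')
  obtain ⟨⟨h24, hst⟩, hfix⟩ := mem_fixList.1 hσ
  exact ⟨σ, h24, hst, fun i hi => hfix _ (List.mem_map_of_mem hi), he⟩

theorem class_count {ins outs : List ℕ} (hlt : ∀ i ∈ ins ++ outs, i < 24) (k : ℕ) :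
    {s | s ∈ octads ∧ Dom ins outs s ∧ (ptsOf octBase ∩ s).card = k}.ncard =
      (classList ins outs k).length :=
  ncard_weight_filter 8 (fun s => Dom ins outs s ∧ (ptsOf octBase ∩ s).card = k) _ fun m _ => by
    rw [Bool.and_eq_true, beq_iff_eq, dom_iff hlt, ← ptsOf_and, card_ptsOf]

/-- The count moved along `M24`. -/
theorem count_at {ins outs : List ℕ} (hlt : ∀ i ∈ ins ++ outs, i < 24) {u : Equiv.Perm GolayPt}
    (hu : u ∈ M24) (k : ℕ) :
    {s | s ∈ octads ∧ Dom ins outs (u⁻¹ • s) ∧ (u • ptsOf octBase ∩ s).card = k}.ncard =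
      (classList ins outs k).length := by
  rw [← class_count hlt k]
  exact ncard_transport u (smul_mem_iff_of_inv (fun g hg y hy => M24_smul_octad hg hy) hu)
    (fun s => Dom ins outs s ∧ (ptsOf octBase ∩ s).card = k)
    (fun s => Dom ins outs (u⁻¹ • s) ∧ (u • ptsOf octBase ∩ s).card = k)
    fun s => by rw [inv_smul_smul, card_smul_inter]

/-- The orbits moved along `M24`. -/
theorem map_at {ins outs gens : List ℕ} {hd : ℕ} {steps : List (ℕ × ℕ × ℕ)} {k : ℕ}
    (hc : classOK ins outs gens hd steps k = true) (hlt : ∀ i ∈ ins ++ outs, i < 24)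
    {u : Equiv.Perm GolayPt} (hu : u ∈ M24) {o' o'' : Finset GolayPt} (ho' : o' ∈ octads)
    (ho'' : o'' ∈ octads) (hd' : Dom ins outs (u⁻¹ • o')) (hd'' : Dom ins outs (u⁻¹ • o''))
    (hk' : (u • ptsOf octBase ∩ o').card = k) (hk'' : (u • ptsOf octBase ∩ o'').card = k) :
    ∃ g ∈ M24, g • (u • ptsOf octBase) = u • ptsOf octBase ∧
      (∀ i ∈ ins ++ outs, g (u (idx ptEnc i)) = u (idx ptEnc i)) ∧ g • o' = o'' := by
  have hk : ∀ s, (ptsOf octBase ∩ u⁻¹ • s).card = (u • ptsOf octBase ∩ s).card := fun s => by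
    rw [← card_smul_inter u, smul_inv_smul]
  obtain ⟨σ, hσ, hσb, hσf, hσe⟩ := class_map hc hlt (M24_smul_octad (inv_mem hu) ho')
    (M24_smul_octad (inv_mem hu) ho'') hd' hd'' ((hk o').trans hk') ((hk o'').trans hk'')
  refine ⟨u * σ * u⁻¹, mul_mem (mul_mem hu hσ) (inv_mem hu), ?_, fun i hi => ?_, ?_⟩
  · rw [mul_smul, mul_smul, inv_smul_smul, hσb]
  · rw [Equiv.Perm.mul_apply, Equiv.Perm.mul_apply,
      show u⁻¹ (u (idx ptEnc i)) = idx ptEnc i from u.symm_apply_apply _, hσf i hi]
  · rw [mul_smul, mul_smul, hσe, smul_inv_smul]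

theorem idx_mem_inv_smul {u : Equiv.Perm GolayPt} {i : ℕ} {s : Finset GolayPt} :
    idx ptEnc i ∈ u⁻¹ • s ↔ u (idx ptEnc i) ∈ s := by
  rw [mem_smul_pts]
  rfl

theorem octBase_octad : ptsOf octBase ∈ octads :=
  ptsOf_mem_octads (by decide +kernel) (by decide +kernel)

/-- The reference octad carried to any octad with two of its points prescribed. -/
theorem exists_frame_two {o : Finset GolayPt} (ho : o ∈ octads) {p q : GolayPt} (hp : p ∈ o)
    (hq : q ∈ o) (hpq : p ≠ q) :
    ∃ u ∈ M24, u • ptsOf octBase = o ∧ u (idx ptEnc 0) = p ∧ u (idx ptEnc 1) = q := by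
  have hc : 3 ≤ ((o.erase p).erase q).card := by
    rw [Finset.card_erase_of_mem (Finset.mem_erase.2 ⟨hpq.symm, hq⟩), Finset.card_erase_of_mem hp,
      octad_card ho]
    norm_num
  obtain ⟨y, hy⟩ := exists_embedding_of_le_card hc
  have hy' : ∀ i, y i ≠ p ∧ y i ≠ q ∧ y i ∈ o := fun i => by
    have := hy i
    simp only [Finset.mem_erase] at this
    exact ⟨this.2.1, this.1, this.2.2⟩
  obtain ⟨u, hu, huo, hux⟩ := M24_exists_map_octad octBase_octad ho
    ⟨![idx ptEnc 0, idx ptEnc 1, idx ptEnc 2, idx ptEnc 3, idx ptEnc 4], by decide +kernel⟩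
    ⟨![p, q, y 0, y 1, y 2], by
      intro i j
      fin_cases i <;> fin_cases j <;>
        simp [hpq, hpq.symm, (hy' 0).1, (hy' 0).2.1, (hy' 1).1, (hy' 1).2.1, (hy' 2).1, (hy' 2).2.1,
          (hy' 0).1.symm, (hy' 0).2.1.symm, (hy' 1).1.symm, (hy' 1).2.1.symm, (hy' 2).1.symm,
          (hy' 2).2.1.symm]⟩
    (fun i => by fin_cases i <;> decide +kernel)
    (fun i => by
      fin_cases i
      exacts [hp, hq, (hy' 0).2.2, (hy' 1).2.2, (hy' 2).2.2])
  exact ⟨u, hu, huo, hux 0, hux 1⟩

/-- The reference octad carried to any octad with one of its points prescribed. -/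
theorem exists_frame_one {o : Finset GolayPt} (ho : o ∈ octads) {p : GolayPt} (hp : p ∈ o) :
    ∃ u ∈ M24, u • ptsOf octBase = o ∧ u (idx ptEnc 0) = p := by
  obtain ⟨q, hq, hne⟩ : ∃ q ∈ o, q ≠ p :=
    Finset.exists_mem_ne (by rw [octad_card ho]; norm_num) p
  obtain ⟨u, hu, h1, h2, -⟩ := exists_frame_two ho hp hq hne.symm
  exact ⟨u, hu, h1, h2⟩

/-- An outside point may be prescribed as well. -/
theorem exists_adjust {o : Finset GolayPt} (ho : o ∈ octads) {q : GolayPt} (hq : q ∉ o)
    {u : Equiv.Perm GolayPt} (hu : u ∈ M24) (huo : u • ptsOf octBase = o) :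
    ∃ v ∈ M24, v • ptsOf octBase = o ∧ v (idx ptEnc 5) = q ∧
      ∀ x ∈ ptsOf octBase, v x = u x := by
  have h5 : u (idx ptEnc 5) ∉ o := by
    rw [← huo, apply_mem_smul_pts]
    decide +kernel
  obtain ⟨σ, hσ, hσq⟩ := octFix_map ho h5 hq
  refine ⟨σ * u, mul_mem (mem_octFix.1 hσ).1 hu, by rw [mul_smul, huo, octFix_le_stab hσ], hσq,
    fun x hx => (mem_octFix.1 hσ).2 _ ?_⟩
  rw [← huo]
  exact apply_mem_smul_pts.2 hx

theorem inter_eq_eight {o o' : Finset GolayPt} (ho : o ∈ octads) (ho' : o' ∈ octads)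
    (h : (o ∩ o').card = 8) : o = o' :=
  octad_eq_of_five_le ho ho' (by omega)

end Cfsg.Agent.Mathieu.OctRank

namespace Cfsg.Agent.Mathieu.OctRank

theorem checkAA2 : classOK [0, 1] [] gensAA headAA2 stepsAA2 2 = true := by decide +kernel
theorem checkAA4 : classOK [0, 1] [] gensAA headAA4 stepsAA4 4 = true := by decide +kernel
theorem checkAC2 : classOK [0] [5] gensAC headAC2 stepsAC2 2 = true := by decide +kernel
theorem checkAC4 : classOK [0] [5] gensAC headAC4 stepsAC4 4 = true := by decide +kernel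
theorem checkA2 : classOK [0] [] gensA headA2 stepsA2 2 = true := by decide +kernel
theorem checkA4 : classOK [0] [] gensA headA4 stepsA4 4 = true := by decide +kernel
theorem checkC0 : classOK [] [5] gensC headC0 stepsC0 0 = true := by decide +kernel
theorem checkC2 : classOK [] [5] gensC headC2 stepsC2 2 = true := by decide +kernel
theorem checkC4 : classOK [] [5] gensC headC4 stepsC4 4 = true := by decide +kernel

theorem lengths :
    (classList [0, 1] [] 2).length = 16 ∧ (classList [0, 1] [] 4).length = 60 ∧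
      (classList [0] [5] 2).length = 70 ∧ (classList [0] [5] 4).length = 105 ∧
      (classList [0] [] 2).length = 112 ∧ (classList [0] [] 4).length = 140 ∧
      (classList [] [5] 0).length = 15 ∧ (classList [] [5] 4).length = 210 ∧
      (classList [] [5] 2).length = 280 := by
  decide +kernel

/-- The cases for the number of points common with an octad. -/
theorem inter_cases {o o' : Finset GolayPt} (ho : o ∈ octads) (ho' : o' ∈ octads) :
    (o ∩ o').card = 0 ∨ (o ∩ o').card = 2 ∨ (o ∩ o').card = 4 ∨ o = o' := by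
  by_cases h : o = o'
  · tauto
  · rcases octad_inter_card ho ho' h with h1 | h1 | h1 <;> tauto

theorem eq_of_inter_eq {o o' o'' : Finset GolayPt} (ho : o ∈ octads) (ho'' : o'' ∈ octads)
    (h : (o ∩ o').card = (o ∩ o'').card) (he : o = o') : o' = o'' := by
  subst he
  refine inter_eq_eight ho ho'' ?_
  rw [← h, Finset.inter_self, octad_card ho]

end Cfsg.Agent.Mathieu.OctRank
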