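import Cfsg.Agent.Lib.Mathieu.Dodecad.Tools

/-!
The stabiliser in `M11` of a pair of points outside the dodecad is a symmetric group of degree five.
-/

set_option autoImplicit false
set_option maxRecDepth 20000

namespace Cfsg.Agent.Mathieu

open Cfsg
open scoped Pointwise

/-- The reference pair outside the dodecad of squares. -/
def outPair : Finset GolayPt := {idx ptEnc 5, idx ptEnc 7}

/-- The five points permuted by its stabiliser. -/
def fivePts : Fin 5 → GolayPt := ![idx ptEnc 2, idx ptEnc 3, idx ptEnc 6, idx ptEnc 8, idx ptEnc 18]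

/-- Lifts of a transposition and of a five-cycle. -/
def fiveLifts : List ℕ :=
  [0x13160f1117121404150e0c0d0b0a01080506071002030900, 0xf0e160b0a0217041413010c111510120708050d06030900]

theorem fiveLifts_ok : fiveLifts.all (fun l => m11OK l && mapsMask l (2 ^ 5 ||| 2 ^ 7) (2 ^ 5 ||| 2 ^ 7)) = true := by
  decide +kernel

theorem outPair_eq : outPair = ptsOf (2 ^ 5 ||| 2 ^ 7) := by decide +kernel

theorem stab_outPair_equiv : Nonempty
    (↥(Spor.M11 ⊓ MulAction.stabilizer (Equiv.Perm GolayPt) outPair) ≃* Equiv.Perm (Fin 5)) := by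
  classical
  have hlift : ∀ (i : Fin fiveLifts.length) (k : Equiv.Perm (Fin 5)),
      (∀ x, app (fiveLifts.get i) (ptEnc (fivePts x)).val = (ptEnc (fivePts (k x))).val) →
      ∃ h ∈ Spor.M11 ⊓ MulAction.stabilizer (Equiv.Perm GolayPt) outPair,
        ∀ x, h • fivePts x = fivePts (k • x) := by
    intro i k hk
    have h := List.all_eq_true.1 fiveLifts_ok _ (List.get_mem fiveLifts i)
    rw [Bool.and_eq_true] at h
    obtain ⟨σ, hσ, hr⟩ := exists_of_m11OK h.1
    refine ⟨σ, ⟨hσ, MulAction.mem_stabilizer_iff.2 ?_⟩, fun x => ptEnc.injective (Fin.ext ?_)⟩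
    · rw [outPair_eq]; exact smul_ptsOf hr h.2
    · exact (hr (fivePts x)).trans (hk x)
  refine nonempty_equiv_of_intertwine _ fivePts (by decide +kernel)
    {Equiv.swap (0 : Fin 5) 1, finRotate 5} ?_ ?_ ?_
  · have h := Equiv.Perm.closure_cycle_adjacent_swap (isCycle_finRotate (n := 3))
      (by rw [support_finRotate]) (0 : Fin 5)
    rw [show finRotate 5 (0 : Fin 5) = 1 by decide +kernel, Set.pair_comm] at h
    exact h
  · rintro k (rfl | rfl)
    · exact hlift ⟨0, by decide⟩ _ (by decide +kernel)
    · exact hlift ⟨1, by decide⟩ _ (by decide +kernel)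
  · have hC : (Spor.squareDodecadᶜ).card = 12 := by rw [squareDodecad_eq]; decide +kernel
    have h := card_inf_stabilizer_mul_le Spor.M11 outPair
      ((Spor.squareDodecadᶜ).powersetCard 2 : Set (Finset GolayPt)) (fun y hy => ?_)
    · rw [Set.ncard_coe_finset, Finset.card_powersetCard, hC, card_M11] at h
      rw [Nat.card_eq_fintype_card (α := Equiv.Perm (Fin 5)), Fintype.card_perm, Fintype.card_fin]
      norm_num [Nat.choose, Nat.factorial] at h ⊢
      omega
    · obtain ⟨hsub, h2⟩ := Finset.mem_powersetCard.1 (Finset.mem_coe.1 hy)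
      obtain ⟨a, b, hab, rfl⟩ := Finset.card_eq_two.1 h2
      obtain ⟨g, hg, hga⟩ := M11_exists_map_compl (k := 2) (by norm_num)
        ⟨![idx ptEnc 5, idx ptEnc 7], by decide +kernel⟩
        ⟨![a, b], by intro i j; fin_cases i <;> fin_cases j <;> simp [hab, hab.symm]⟩
        (fun i => by
          fin_cases i
          · exact (idx_mem_square (by norm_num)).not.2 (by decide +kernel)
          · exact (idx_mem_square (by norm_num)).not.2 (by decide +kernel))
        (fun i => by
          fin_cases i
          · exact Finset.mem_compl.1 (hsub (Finset.mem_insert_self a {b}))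
          · exact Finset.mem_compl.1 (hsub (Finset.mem_insert_of_mem (Finset.mem_singleton_self b))))
      refine ⟨g, hg, ?_⟩
      have h0 : g (idx ptEnc 5) = a := hga 0
      have h1 : g (idx ptEnc 7) = b := hga 1
      simp [outPair, Finset.smul_finset_insert, Equiv.Perm.smul_def, h0, h1]

end Cfsg.Agent.Mathieu
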