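import Cfsg.Agent.Lib.Mathieu.Dodecad.Tools
import Cfsg.Agent.Lib.Mathieu.Stab.Common
import Cfsg.Agent.Lib.Mathieu.Rigid
import Cfsg.Agent.Lib.Mathieu.Dodecad.QuartetData
import Cfsg.Prelude.Def_SporadicCombinatorics

/-!
The quartets of a dodecad: two triples forming a hexad determine one, `M12` permutes the 220 of
them transitively, and the stabiliser of one has order 432, a normal subgroup of order 9 with
quotient `GL(2, 3)` and four orbits on the other quartets.
-/

set_option autoImplicit false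
set_option maxRecDepth 20000

namespace Cfsg.Agent.Mathieu.Quartet

open Cfsg
open scoped Pointwise

/-! ### Hexads and quartets under `M24` -/

theorem smul_mem_hexadsOn {g : Equiv.Perm GolayPt} (hg : g ∈ M24) {d h : Finset GolayPt}
    (hh : h ∈ hexadsOn d) : g • h ∈ hexadsOn (g • d) := by
  obtain ⟨h6, o, ho, rfl⟩ := hh
  exact ⟨by rw [card_smul_pts, h6], g • o, M24_smul_octad hg ho, (smul_inter_pts g o d).symm⟩

theorem smul_mem_quartets {g : Equiv.Perm GolayPt} (hg : g ∈ M24) {d : Finset GolayPt}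
    {Q : Finset (Finset GolayPt)} (hQ : Q ∈ quartets d) : g • Q ∈ quartets (g • d) := by
  obtain ⟨h4, ht, hu⟩ := hQ
  refine ⟨by rw [Finset.card_smul_finset, h4], ?_, ?_⟩
  · intro t htm
    obtain ⟨t₀, ht₀, rfl⟩ := Finset.mem_smul_finset.1 htm
    exact ⟨by rw [card_smul_pts, (ht t₀ ht₀).1], Finset.smul_finset_subset_smul_finset (ht t₀ ht₀).2⟩
  · intro t htm u hum hne
    obtain ⟨t₀, ht₀, rfl⟩ := Finset.mem_smul_finset.1 htm
    obtain ⟨u₀, hu₀, rfl⟩ := Finset.mem_smul_finset.1 hum
    rw [← smul_union_pts]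
    exact smul_mem_hexadsOn hg (hu t₀ ht₀ u₀ hu₀ fun e => hne (by rw [e]))

theorem smul_mem_quartets_square {g : Equiv.Perm GolayPt} (hg : g ∈ Spor.M12)
    {Q : Finset (Finset GolayPt)} (hQ : Q ∈ quartets Spor.squareDodecad) :
    g • Q ∈ quartets Spor.squareDodecad := by
  have := smul_mem_quartets (M12_le_M24 hg) hQ
  rwa [(mem_M12_iff.1 hg).2] at this

theorem quartet_disjoint {d : Finset GolayPt} {Q : Finset (Finset GolayPt)} (hQ : Q ∈ quartets d)
    {t u : Finset GolayPt} (ht : t ∈ Q) (hu : u ∈ Q) (hne : t ≠ u) : Disjoint t u := by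
  rw [← Finset.card_union_eq_card_add_card, (hQ.2.2 t ht u hu hne).1, (hQ.2.1 t ht).1,
    (hQ.2.1 u hu).1]

/-- The masks of the hexads on the dodecad of squares. -/
def hexMasks : List ℕ :=
  ((maskList 8).map fun o => o &&& dodMask).filter fun h => popc 24 h == 6

theorem mem_hexadsOn_square {m : ℕ} (hm : m < 2 ^ 24) :
    ptsOf m ∈ hexadsOn Spor.squareDodecad ↔ m ∈ hexMasks := by
  simp only [hexadsOn, hexMasks, Set.mem_ofPred_eq, List.mem_filter, List.mem_map, beq_iff_eq,
    card_ptsOf, squareDodecad_eq]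
  constructor
  · rintro ⟨h6, o, ho, he⟩
    obtain ⟨a, ha, rfl⟩ := mem_octads_iff.1 ho
    rw [← ptsOf_and] at he
    exact ⟨⟨a, ha, ptsOf_inj (Nat.lt_of_le_of_lt Nat.and_le_right (by decide +kernel)) hm he⟩, h6⟩
  · rintro ⟨⟨a, ha, rfl⟩, h6⟩
    exact ⟨h6, ptsOf a, mem_octads_iff.2 ⟨a, ha, rfl⟩, (ptsOf_and _ _).symm⟩

/-- Check that masks form a quartet of the dodecad of squares. -/
def quartOK (A : List ℕ) : Bool :=
  famOK A && A.length == 4 &&
    A.all fun a => (popc 24 a == 3 && a &&& dodMask == a) &&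
      A.all fun b => a == b || hexMasks.contains (a ||| b)

theorem famPts_mem_quartets {A : List ℕ} (h : quartOK A = true) :
    famPts A ∈ quartets Spor.squareDodecad := by
  simp only [quartOK, Bool.and_eq_true, beq_iff_eq, List.all_eq_true, Bool.or_eq_true,
    List.contains_iff_mem] at h
  obtain ⟨⟨hok, hlen⟩, hall⟩ := h
  refine ⟨by rw [card_famPts hok, hlen], fun t ht => ?_, fun t ht u hu hne => ?_⟩
  · obtain ⟨a, ha, rfl⟩ := mem_famPts.1 ht
    refine ⟨by rw [card_ptsOf, (hall a ha).1.1], ?_⟩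
    rw [← (hall a ha).1.2, ptsOf_and, squareDodecad_eq]
    exact Finset.inter_subset_right
  · obtain ⟨a, ha, rfl⟩ := mem_famPts.1 ht
    obtain ⟨b, hb, rfl⟩ := mem_famPts.1 hu
    rcases (hall a ha).2 b hb with rfl | h1
    · exact absurd rfl hne
    · rw [← ptsOf_or]
      exact (mem_hexadsOn_square (Nat.or_lt_two_pow ((famOK_spec hok).1 a ha)
        ((famOK_spec hok).1 b hb))).2 h1

/-! ### The reference quartet -/

/-- The first triple. -/
def tBase : Finset GolayPt := ptsOf 0x7

/-- The second triple. -/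
def uBase : Finset GolayPt := ptsOf 0x1018

theorem quartBase_ok : quartOK quartBase = true := by decide +kernel

theorem base_mem : famPts quartBase ∈ quartets Spor.squareDodecad :=
  famPts_mem_quartets quartBase_ok

theorem base_check :
    (quartBase.contains 0x7 && quartBase.contains 0x1018 &&
      ((subMasks 24 (dodMask ^^^ 0x101f)).all fun m => !(popc 24 m == 3) ||
        !(hexMasks.contains (0x7 ||| m) && hexMasks.contains (0x1018 ||| m)) ||
        quartBase.contains m)) = true := by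
  decide +kernel

theorem tBase_mem : tBase ∈ famPts quartBase :=
  mem_famPts.2 ⟨0x7, by decide +kernel, rfl⟩

theorem uBase_mem : uBase ∈ famPts quartBase :=
  mem_famPts.2 ⟨0x1018, by decide +kernel, rfl⟩

/-- A quartet containing the two reference triples is the reference quartet. -/
theorem eq_base {Q : Finset (Finset GolayPt)} (hQ : Q ∈ quartets Spor.squareDodecad)
    (ht : tBase ∈ Q) (hu : uBase ∈ Q) : Q = famPts quartBase := by
  refine Finset.eq_of_subset_of_card_le (fun v hv => ?_) (by rw [hQ.1, base_mem.1])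
  by_cases h1 : v = tBase
  · exact h1 ▸ tBase_mem
  by_cases h2 : v = uBase
  · exact h2 ▸ uBase_mem
  obtain ⟨m, hm, rfl⟩ := exists_mask v
  have hsub : ptsOf m ⊆ ptsOf (dodMask ^^^ 0x101f) := by
    intro x hx
    have hxd := (hQ.2.1 _ hv).2 hx
    have hxt := Finset.disjoint_left.1 (quartet_disjoint hQ hv ht h1) hx
    have hxu := Finset.disjoint_left.1 (quartet_disjoint hQ hv hu h2) hx
    rw [tBase, mem_ptsOf, hasPt] at hxt
    rw [uBase, mem_ptsOf, hasPt] at hxu
    rw [squareDodecad_eq, mem_ptsOf, hasPt] at hxd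
    rw [mem_ptsOf, hasPt, show (0x101f : ℕ) = 0x7 ||| 0x1018 from rfl, Nat.testBit_xor,
      Nat.testBit_or, hxd]
    simp [Bool.not_eq_true _ ▸ hxt, Bool.not_eq_true _ ▸ hxu]
  have hmem : m ∈ subMasks 24 (dodMask ^^^ 0x101f) :=
    mem_subMasks 24 _ m hm (ptsOf_inj (Nat.lt_of_le_of_lt Nat.and_le_left hm) hm (by
      rw [ptsOf_and, Finset.inter_eq_left.2 hsub]))
  have hc := base_check
  simp only [Bool.and_eq_true, List.all_eq_true, Bool.or_eq_true, List.contains_iff_mem,
    Bool.not_eq_eq_eq_not, Bool.not_true, Bool.and_eq_false_iff, beq_eq_false_iff_ne] at hc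
  have e1 : (0x7 ||| m) ∈ hexMasks := (mem_hexadsOn_square (Nat.or_lt_two_pow (by norm_num) hm)).1
    (by rw [ptsOf_or, ← tBase]; exact hQ.2.2 _ ht _ hv fun e => h1 e.symm)
  have e2 : (0x1018 ||| m) ∈ hexMasks :=
    (mem_hexadsOn_square (Nat.or_lt_two_pow (by norm_num) hm)).1
      (by rw [ptsOf_or, ← uBase]; exact hQ.2.2 _ hu _ hv fun e => h2 e.symm)
  rcases hc.2 m hmem with (h | h) | h
  · exact absurd (by rw [← card_ptsOf, (hQ.2.1 _ hv).1]) h
  · rcases h with h | h
    · exact absurd (List.contains_iff_mem.2 e1) (by rw [h]; simp)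
    · exact absurd (List.contains_iff_mem.2 e2) (by rw [h]; simp)
  · exact mem_famPts.2 ⟨m, h, rfl⟩

/-- Two disjoint triples forming a hexad are images of the reference triples. -/
theorem exists_map_triples {t u : Finset GolayPt} (ht : t.card = 3) (hu : u.card = 3)
    (htu : Disjoint t u) (hh : t ∪ u ∈ hexadsOn Spor.squareDodecad) :
    ∃ g ∈ Spor.M12, g • tBase = t ∧ g • uBase = u := by
  obtain ⟨a, b, c, hab, hac, hbc, rfl⟩ := Finset.card_eq_three.1 ht
  obtain ⟨x, y, z, hxy, hxz, hyz, rfl⟩ := Finset.card_eq_three.1 hu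
  obtain ⟨h6, o, ho, he⟩ := hh
  have hsub : ({a, b, c} ∪ {x, y, z} : Finset GolayPt) ⊆ Spor.squareDodecad := by
    rw [← he]; exact Finset.inter_subset_right
  have hin : ∀ i : Fin 5, (![a, b, c, x, y] : Fin 5 → GolayPt) i ∈
      ({a, b, c} ∪ {x, y, z} : Finset GolayPt) := fun i => by
    fin_cases i <;> simp
  have hd : ∀ p ∈ ({a, b, c} : Finset GolayPt), ∀ q ∈ ({x, y, z} : Finset GolayPt), p ≠ q :=
    fun p hp q hq e => Finset.disjoint_left.1 htu hp (e ▸ hq)
  have hinj : Function.Injective (![a, b, c, x, y] : Fin 5 → GolayPt) := by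
    intro i j
    fin_cases i <;> fin_cases j <;>
      simp [hab, hab.symm, hac, hac.symm, hbc, hbc.symm, hxy, hxy.symm,
        hd a (by simp) x (by simp), hd a (by simp) y (by simp),
        hd b (by simp) x (by simp), hd b (by simp) y (by simp),
        hd c (by simp) x (by simp), hd c (by simp) y (by simp),
        (hd a (by simp) x (by simp)).symm, (hd a (by simp) y (by simp)).symm,
        (hd b (by simp) x (by simp)).symm, (hd b (by simp) y (by simp)).symm,
        (hd c (by simp) x (by simp)).symm, (hd c (by simp) y (by simp)).symm]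
  obtain ⟨g, hg, hgx⟩ := M12_exists_map (k := 5) le_rfl
    ⟨![idx ptEnc 0, idx ptEnc 1, idx ptEnc 2, idx ptEnc 3, idx ptEnc 4], by decide +kernel⟩
    ⟨![a, b, c, x, y], hinj⟩
    (fun i => by fin_cases i <;> exact (idx_mem_square (by norm_num)).2 (by decide +kernel))
    (fun i => hsub (hin i))
  have htB : tBase = {idx ptEnc 0, idx ptEnc 1, idx ptEnc 2} := by decide +kernel
  have ha : g (idx ptEnc 0) = a := hgx 0
  have hb : g (idx ptEnc 1) = b := hgx 1
  have hc : g (idx ptEnc 2) = c := hgx 2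
  have hgt : g • tBase = {a, b, c} := by
    simp [htB, Finset.smul_finset_insert, Equiv.Perm.smul_def, ha, hb, hc]
  refine ⟨g, hg, hgt, ?_⟩
  have hb0 : tBase ∪ uBase ∈ hexadsOn Spor.squareDodecad :=
    base_mem.2.2 _ tBase_mem _ uBase_mem (by decide +kernel)
  have hb1 := smul_mem_hexadsOn (M12_le_M24 hg) hb0
  rw [(mem_M12_iff.1 hg).2, smul_union_pts, hgt] at hb1
  obtain ⟨h6', o', ho', he'⟩ := hb1
  have hu5 : ({x, y} : Finset GolayPt) ⊆ g • uBase := by
    have hx : g (idx ptEnc 3) = x := hgx 3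
    have hy : g (idx ptEnc 4) = y := hgx 4
    rw [← hx, ← hy, Finset.insert_subset_iff, Finset.singleton_subset_iff]
    exact ⟨apply_mem_smul_pts.2 (by decide +kernel), apply_mem_smul_pts.2 (by decide +kernel)⟩
  set s : Finset GolayPt := Finset.univ.map ⟨![a, b, c, x, y], hinj⟩ with hs
  have hs5 : s.card = 5 := by simp [hs]
  have hso : s ⊆ o := fun p hp => by
    obtain ⟨i, -, rfl⟩ := Finset.mem_map.1 hp
    exact (Finset.mem_inter.1 (he.symm ▸ hin i)).1
  have hso' : s ⊆ o' := fun p hp => by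
    obtain ⟨i, -, rfl⟩ := Finset.mem_map.1 hp
    have : (![a, b, c, x, y] : Fin 5 → GolayPt) i ∈ ({a, b, c} ∪ g • uBase : Finset GolayPt) := by
      fin_cases i
      · simp
      · simp
      · simp
      · exact Finset.mem_union_right _ (hu5 (by simp))
      · exact Finset.mem_union_right _ (hu5 (by simp))
    exact (Finset.mem_inter.1 (he'.symm ▸ this)).1
  obtain rfl : o = o' := octad_eq_of_five_le ho ho'
    (hs5 ▸ Finset.card_le_card (Finset.subset_inter hso hso'))
  have hdisj : Disjoint ({a, b, c} : Finset GolayPt) (g • uBase) := by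
    rw [← hgt, Finset.disjoint_left]
    intro p hp hq
    rw [mem_smul_pts] at hp hq
    exact Finset.disjoint_left.1 (quartet_disjoint base_mem tBase_mem uBase_mem (by decide +kernel)) hp hq
  rw [← Finset.union_sdiff_cancel_left hdisj, ← he', he, Finset.union_sdiff_cancel_left htu]

/-- Two triples of a quartet of the dodecad of squares and their uniqueness. -/
theorem existsUnique_quartet {t u : Finset GolayPt} (ht : t.card = 3) (hu : u.card = 3)
    (htu : Disjoint t u) (hh : t ∪ u ∈ hexadsOn Spor.squareDodecad) :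
    ∃! Q, Q ∈ quartets Spor.squareDodecad ∧ t ∈ Q ∧ u ∈ Q := by
  obtain ⟨g, hg, rfl, rfl⟩ := exists_map_triples ht hu htu hh
  refine ⟨g • famPts quartBase, ⟨smul_mem_quartets_square hg base_mem,
    Finset.smul_mem_smul_finset tBase_mem, Finset.smul_mem_smul_finset uBase_mem⟩, fun Q hQ => ?_⟩
  have h := eq_base (smul_mem_quartets_square (inv_mem hg) hQ.1)
    (by simpa using Finset.smul_mem_smul_finset (a := g⁻¹) hQ.2.1)
    (by simpa using Finset.smul_mem_smul_finset (a := g⁻¹) hQ.2.2)
  rw [← h, smul_inv_smul]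

/-- `M12` is transitive on the quartets. -/
theorem exists_map_base {Q : Finset (Finset GolayPt)} (hQ : Q ∈ quartets Spor.squareDodecad) :
    ∃ g ∈ Spor.M12, g • famPts quartBase = Q := by
  obtain ⟨t, ht, u, hu, hne⟩ := Finset.one_lt_card.1 (by rw [hQ.1]; norm_num : 1 < Q.card)
  obtain ⟨g, hg, rfl, rfl⟩ := exists_map_triples (hQ.2.1 t ht).1 (hQ.2.1 u hu).1
    (quartet_disjoint hQ ht hu hne) (hQ.2.2 t ht u hu hne)
  refine ⟨g, hg, ?_⟩
  have h := eq_base (smul_mem_quartets_square (inv_mem hg) hQ)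
    (by simpa using Finset.smul_mem_smul_finset (a := g⁻¹) ht)
    (by simpa using Finset.smul_mem_smul_finset (a := g⁻¹) hu)
  rw [← h, smul_inv_smul]

end Cfsg.Agent.Mathieu.Quartet
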