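import Cfsg.Agent.Lib.Mathieu.Dodecad.Quartet

/-!
The stabiliser of a quartet in `M12`: order 432, structure, orbits; the number of quartets.
-/

set_option autoImplicit false
set_option maxRecDepth 20000

namespace Cfsg.Agent.Mathieu.Quartet

open Cfsg
open scoped Pointwise Matrix

/-- The stabiliser of the reference quartet in `M12`. -/
def quartStab : Subgroup (Equiv.Perm GolayPt) :=
  Spor.M12 ⊓ MulAction.stabilizer (Equiv.Perm GolayPt) (famPts quartBase)

theorem exists_of_stabOK {l : ℕ} (h : (m12OK l && mapsFam l quartBase quartBase) = true) :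
    ∃ σ ∈ quartStab, Rep ptEnc σ l := by
  rw [Bool.and_eq_true] at h
  obtain ⟨σ, hσ, hr⟩ := exists_of_m12OK h.1
  exact ⟨σ, ⟨hσ, MulAction.mem_stabilizer_iff.2 (famPts_smul hr (by decide +kernel) h.2)⟩, hr⟩

theorem gens_mem : ∀ l ∈ quartGens, ∃ σ ∈ quartStab, Rep ptEnc σ l := by
  intro l hl
  exact exists_of_stabOK (List.all_eq_true.1 (show quartGens.all
    (fun l => m12OK l && mapsFam l quartBase quartBase) = true by decide +kernel) l hl)

/-- All listed quartets, one orbit of the stabiliser after another. -/
def quartLists : List (List (List ℕ)) :=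
  [head12 :: steps12.map (fun s => s.2.2), head27 :: steps27.map (fun s => s.2.2),
    head72 :: steps72.map (fun s => s.2.2), head108 :: steps108.map (fun s => s.2.2)]

/-- All listed quartets. -/
def quartAll : List (List ℕ) := quartBase :: quartLists.flatten

theorem quartAll_check : ((quartAll.all fun A => quartOK A) &&
    distinctKeys (quartAll.map famKind.key) && quartAll.length == 220) = true := by
  decide +kernel

theorem quartAll_subset : ↑(quartAll.map famPts).toFinset ⊆ quartets Spor.squareDodecad := by
  intro Q hQ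
  obtain ⟨A, hA, rfl⟩ := List.mem_map.1 (List.mem_toFinset.1 (Finset.mem_coe.1 hQ))
  have h := quartAll_check
  simp only [Bool.and_eq_true, List.all_eq_true] at h
  exact famPts_mem_quartets (h.1.1 A hA)

theorem quartAll_card : (quartAll.map famPts).toFinset.card = 220 := by
  have h := quartAll_check
  simp only [Bool.and_eq_true, List.all_eq_true, beq_iff_eq] at h
  obtain ⟨⟨hok, hkeys⟩, hlen⟩ := h
  have hnd := nodup_of_distinctKeys hkeys
  have hok' : ∀ A ∈ quartAll, famKind.ok A = true := fun A hA => by
    have := hok A hA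
    simp only [quartOK, Bool.and_eq_true] at this
    exact this.1.1
  rw [List.toFinset_card_of_nodup, List.length_map, hlen]
  exact (hnd.of_map _).map_on fun a ha b hb he =>
    List.inj_on_of_nodup_map hnd ha hb (famKind.key_congr a b (hok' a ha) (hok' b hb) he)

theorem card_quartStab_le : Nat.card quartStab * 220 ≤ 95040 := by
  rw [← quartAll_card, ← Set.ncard_coe_finset, ← card_M12]
  exact card_inf_stabilizer_mul_le _ _ _ fun Q hQ => exists_map_base (quartAll_subset hQ)

/-! ### The normal subgroup of order nine and the quotient -/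

/-- The graph of a permutation; conjugation moves it. -/
def graphPts (σ : Equiv.Perm GolayPt) : Finset (GolayPt × GolayPt) :=
  Finset.univ.image fun x => (x, σ x)

theorem graphPts_injective : Function.Injective graphPts := fun σ τ h => Equiv.ext fun x => by
  have : (x, σ x) ∈ graphPts τ := h ▸ Finset.mem_image.2 ⟨x, Finset.mem_univ _, rfl⟩
  obtain ⟨y, -, hy⟩ := Finset.mem_image.1 this
  rw [Prod.mk.injEq] at hy
  rw [← hy.2, hy.1]

theorem smul_graphPts (g σ : Equiv.Perm GolayPt) : g • graphPts σ = graphPts (g * σ * g⁻¹) := by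
  ext ⟨a, b⟩
  simp only [graphPts, Finset.mem_smul_finset, Finset.mem_image, Finset.mem_univ, true_and,
    Prod.smul_mk, Prod.mk.injEq, Equiv.Perm.smul_def]
  constructor
  · rintro ⟨_, ⟨x, rfl⟩, h⟩
    simp only [Prod.smul_mk, Prod.mk.injEq, Equiv.Perm.smul_def] at h
    obtain ⟨rfl, rfl⟩ := h
    exact ⟨g x, rfl, by simp [Equiv.Perm.mul_apply]⟩
  · rintro ⟨x, rfl, rfl⟩
    exact ⟨(g⁻¹ x, σ (g⁻¹ x)), ⟨_, rfl⟩, by simp [Equiv.Perm.mul_apply]⟩

/-- The number of a vector. -/
def vecIdx (v : Fin 2 → ZMod 3) : ℕ := 3 * (v 0).val + (v 1).val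

/-- The number of a matrix. -/
def matIdx (a b c d : ZMod 3) : ℕ := 27 * a.val + 9 * b.val + 3 * c.val + d.val

theorem nine_check : ((nineList.all fun l => m12OK l && mapsFam l quartBase quartBase) &&
    nineList.length == 9) = true := by
  decide +kernel

theorem exists_nine (v : Fin 2 → ZMod 3) :
    ∃ σ ∈ quartStab, Rep ptEnc σ (nineList.getD (vecIdx v) 0) := by
  have h := nine_check
  simp only [Bool.and_eq_true, List.all_eq_true, beq_iff_eq] at h
  have hlt : vecIdx v < nineList.length := by
    have := ZMod.val_lt (v 0)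
    have := ZMod.val_lt (v 1)
    rw [h.2, vecIdx]
    omega
  rw [List.getD_eq_getElem _ _ hlt]
  exact exists_of_stabOK (by
    have := h.1 _ (List.getElem_mem hlt)
    rw [Bool.and_eq_true]
    exact this)

/-- The elements of the normal subgroup of order nine. -/
noncomputable def nine (v : Fin 2 → ZMod 3) : Equiv.Perm GolayPt := (exists_nine v).choose

theorem nine_spec (v : Fin 2 → ZMod 3) :
    nine v ∈ quartStab ∧ Rep ptEnc (nine v) (nineList.getD (vecIdx v) 0) :=
  (exists_nine v).choose_spec

theorem nine_injective : Function.Injective nine := by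
  have h : ∀ v w : Fin 2 → ZMod 3, v ≠ w →
      samePack 24 (nineList.getD (vecIdx v) 0) (nineList.getD (vecIdx w) 0) = false := by
    decide +kernel
  intro v w he
  by_contra hne
  have := (nine_spec v).2.same (he ▸ (nine_spec w).2)
  rw [h v w hne] at this
  exact Bool.false_ne_true this

theorem conj_nine {g : Equiv.Perm GolayPt} {l : ℕ} (hr : Rep ptEnc g l) {v w : Fin 2 → ZMod 3}
    (h : samePack 24 (packMul 24 l (nineList.getD (vecIdx v) 0))
      (packMul 24 (nineList.getD (vecIdx w) 0) l) = true) :
    g • graphPts (nine v) = graphPts (nine w) := by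
  rw [smul_graphPts, mul_inv_eq_iff_eq_mul.2]
  exact ((rep_packMul hr (nine_spec v).2).of_same h).unique (rep_packMul (nine_spec w).2 hr)

/-- Invertible matrices act faithfully on vectors. -/
instance : FaithfulSMul (GL (Fin 2) (ZMod 3)) (Fin 2 → ZMod 3) where
  eq_of_smul_eq_smul {M N} h := Units.ext (Matrix.ext_of_mulVec_single fun i => h (Pi.single i 1))

theorem lift_check : ∀ a b c d : ZMod 3, a * d - b * c ≠ 0 →
    (m12OK (liftTable.getD (matIdx a b c d) 0) &&
      mapsFam (liftTable.getD (matIdx a b c d) 0) quartBase quartBase) = true ∧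
    ∀ v : Fin 2 → ZMod 3, samePack 24
      (packMul 24 (liftTable.getD (matIdx a b c d) 0) (nineList.getD (vecIdx v) 0))
      (packMul 24 (nineList.getD (vecIdx ![a * v 0 + b * v 1, c * v 0 + d * v 1]) 0)
        (liftTable.getD (matIdx a b c d) 0)) = true := by
  decide +kernel

theorem exists_lift (k : GL (Fin 2) (ZMod 3)) :
    ∃ h ∈ quartStab, ∀ v, h • graphPts (nine v) = graphPts (nine (k • v)) := by
  set M : Matrix (Fin 2) (Fin 2) (ZMod 3) := (k : Matrix (Fin 2) (Fin 2) (ZMod 3)) with hM
  have hdet : M 0 0 * M 1 1 - M 0 1 * M 1 0 ≠ 0 := by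
    rw [← Matrix.det_fin_two]
    exact ((Matrix.isUnit_iff_isUnit_det _).1 k.isUnit).ne_zero
  obtain ⟨hok, hall⟩ := lift_check _ _ _ _ hdet
  obtain ⟨σ, hσ, hr⟩ := exists_of_stabOK hok
  refine ⟨σ, hσ, fun v => conj_nine hr ?_⟩
  have : k • v = ![M 0 0 * v 0 + M 0 1 * v 1, M 1 0 * v 0 + M 1 1 * v 1] := by
    show M *ᵥ v = _
    ext i
    fin_cases i <;> simp [Matrix.mulVec, dotProduct, Fin.sum_univ_two]
  rw [this]
  exact hall v

theorem nine_fix : ∀ v w : Fin 2 → ZMod 3, samePack 24
    (packMul 24 (nineList.getD (vecIdx v) 0) (nineList.getD (vecIdx w) 0))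
    (packMul 24 (nineList.getD (vecIdx w) 0) (nineList.getD (vecIdx v) 0)) = true := by
  decide +kernel

theorem card_GL23 : Nat.card (GL (Fin 2) (ZMod 3)) = 48 := by
  rw [Matrix.card_GL_field]
  simp [Fin.prod_univ_two]

/-- The quotient map onto `GL(2, 3)` and the order. -/
theorem quartStab_structure : Nat.card quartStab = 432 ∧
    ∃ f : quartStab →* GL (Fin 2) (ZMod 3), Function.Surjective f ∧ Nat.card f.ker = 9 := by
  have hfix : 9 ≤ {h : Equiv.Perm GolayPt | h ∈ quartStab ∧
      ∀ v : Fin 2 → ZMod 3, h • graphPts (nine v) = graphPts (nine v)}.ncard := by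
    refine le_of_eq_of_le ?_ (Set.ncard_le_ncard (s := Set.range nine) ?_ (Set.toFinite _))
    · rw [← Nat.card_coe_set_eq, Nat.card_range_of_injective nine_injective]
      simp
    · rintro _ ⟨v, rfl⟩
      exact ⟨(nine_spec v).1, fun w => conj_nine (nine_spec v).2 (nine_fix v w)⟩
  have hle : Nat.card quartStab ≤ 9 * Nat.card (GL (Fin 2) (ZMod 3)) := by
    rw [card_GL23]
    have := card_quartStab_le
    omega
  obtain ⟨f, hf, -, hker, hcard⟩ := exists_hom_of_intertwine quartStab
    (fun v => graphPts (nine v)) (graphPts_injective.comp nine_injective) Set.univ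
    Subgroup.closure_univ (fun k _ => exists_lift k) 9 hfix hle
  exact ⟨by rw [hcard, card_GL23], f, hf, hker⟩

/-! ### The count -/

theorem quartets_ncard : (quartets Spor.squareDodecad).ncard = 220 := by
  have horb : MulAction.orbit Spor.M12 (famPts quartBase) = quartets Spor.squareDodecad := by
    ext Q
    refine ⟨?_, fun hQ => ?_⟩
    · rintro ⟨⟨g, hg⟩, rfl⟩
      exact smul_mem_quartets_square hg base_mem
    · obtain ⟨g, hg, he⟩ := exists_map_base hQ
      exact ⟨⟨g, hg⟩, he⟩
  have h := Subgroup.index_mul_card (MulAction.stabilizer Spor.M12 (famPts quartBase))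
  rw [MulAction.index_stabilizer, horb, card_M12,
    Nat.card_congr (stabEquivInf Spor.M12 (famPts quartBase)).toEquiv] at h
  have h432 := quartStab_structure.1
  rw [quartStab] at h432
  rw [h432] at h
  omega

theorem quartets_eq : quartets Spor.squareDodecad = ↑(quartAll.map famPts).toFinset :=
  (Set.eq_of_subset_of_ncard_le quartAll_subset
    (by rw [quartets_ncard, Set.ncard_coe_finset, quartAll_card]) (Set.toFinite _)).symm

/-! ### Transitivity on the dodecad and the orbits on quartets -/

theorem point_check : (treeOK maskKind quartGens [pointHead] pointSteps &&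
    ((List.range 24).all fun i => !dodMask.testBit i ||
      (pointHead :: pointSteps.map fun s => s.2.2).contains (2 ^ i))) = true := by
  decide +kernel

theorem stab_map_point {x y : GolayPt} (hx : x ∈ Spor.squareDodecad)
    (hy : y ∈ Spor.squareDodecad) : ∃ g ∈ quartStab, g x = y := by
  have h := point_check
  rw [Bool.and_eq_true, List.all_eq_true] at h
  have hmem : ∀ z, z ∈ Spor.squareDodecad →
      2 ^ (ptEnc z).val ∈ pointHead :: pointSteps.map fun s => s.2.2 := by
    intro z hz
    rw [squareDodecad_eq, mem_ptsOf, hasPt] at hz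
    have := h.2 (ptEnc z).val (List.mem_range.2 (Fin.isLt _))
    simpa [hz] using this
  obtain ⟨σ, hσ, he⟩ :=
    exists_map_of_tree gens_mem (by decide +kernel) h.1 _ (hmem x hx) _ (hmem y hy)
  refine ⟨σ, hσ, ?_⟩
  simp only [show ∀ m, maskKind.pts m = ptsOf m from fun _ => rfl, ptsOf_two_pow (Fin.isLt _),
    Fin.eta, Equiv.symm_apply_apply, Finset.smul_finset_singleton, Finset.singleton_inj] at he
  exact he

/-- Fourth moment of the sizes of the common parts. -/
def moment (A B : Finset (Finset GolayPt)) : ℕ := ∑ t ∈ A, ∑ u ∈ B, (t ∩ u).card ^ 4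

theorem moment_smul (g : Equiv.Perm GolayPt) (A B : Finset (Finset GolayPt)) :
    moment (g • A) (g • B) = moment A B := by
  unfold moment
  show ∑ t ∈ A.image (g • ·), ∑ u ∈ B.image (g • ·), (t ∩ u).card ^ 4 = _
  rw [Finset.sum_image fun _ _ _ _ h => MulAction.injective g h]
  refine Finset.sum_congr rfl fun t _ => ?_
  rw [Finset.sum_image fun _ _ _ _ h => MulAction.injective g h]
  exact Finset.sum_congr rfl fun u _ => by rw [card_smul_inter]

/-- The moment on masks. -/
def momentMask (A B : List ℕ) : ℕ :=
  (A.map fun a => (B.map fun b => popc 24 (a &&& b) ^ 4).sum).sum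

theorem moment_famPts {A B : List ℕ} (hA : famOK A = true) (hB : famOK B = true) :
    moment (famPts A) (famPts B) = momentMask A B := by
  obtain ⟨hlA, hnA⟩ := famOK_spec hA
  obtain ⟨hlB, hnB⟩ := famOK_spec hB
  have hndA := hnA.map_on fun x hx y hy e => ptsOf_inj (hlA x hx) (hlA y hy) e
  have hndB := hnB.map_on fun x hx y hy e => ptsOf_inj (hlB x hx) (hlB y hy) e
  rw [moment, famPts, List.sum_toFinset _ hndA, List.map_map, momentMask]
  refine congrArg List.sum (List.map_congr_left fun a _ => ?_)
  show (∑ u ∈ famPts B, (ptsOf a ∩ u).card ^ 4) = _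
  rw [famPts, List.sum_toFinset _ hndB, List.map_map]
  refine congrArg List.sum (List.map_congr_left fun b _ => ?_)
  simp [← ptsOf_and, card_ptsOf]

/-- The members of one orbit. -/
def orbitList (hd : List ℕ) (steps : List (ℕ × ℕ × List ℕ)) : List (List ℕ) :=
  hd :: steps.map fun s => s.2.2

/-- One orbit of the stabiliser: head, tree, moment. -/
def orbitOK (hd : List ℕ) (steps : List (ℕ × ℕ × List ℕ)) (v : ℕ) : Bool :=
  treeOK famKind quartGens [hd] steps &&
    ((orbitList hd steps).all fun A => quartAll.contains A && momentMask quartBase A == v) &&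
    (quartAll.all fun A => (orbitList hd steps).contains A || !(momentMask quartBase A == v)) &&
    distinctKeys ((orbitList hd steps).map famKind.key)

theorem famOK_of_mem {A : List ℕ} (hA : A ∈ quartAll) : famOK A = true := by
  have h := quartAll_check
  simp only [Bool.and_eq_true, List.all_eq_true] at h
  have := h.1.1 A hA
  simp only [quartOK, Bool.and_eq_true] at this
  exact this.1.1

/-- A checked orbit is the fibre of the moment. -/
theorem orbit_of_check {hd : List ℕ} {steps : List (ℕ × ℕ × List ℕ)} {v : ℕ}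
    (h : orbitOK hd steps v = true) :
    famPts hd ∈ quartets Spor.squareDodecad ∧
    MulAction.orbit quartStab (famPts hd) =
        {Q | Q ∈ quartets Spor.squareDodecad ∧ moment (famPts quartBase) Q = v} ∧
      (MulAction.orbit quartStab (famPts hd)).ncard = steps.length + 1 := by
  simp only [orbitOK, Bool.and_eq_true, List.all_eq_true, beq_iff_eq, Bool.or_eq_true,
    List.contains_iff_mem, Bool.not_eq_eq_eq_not, Bool.not_true, beq_eq_false_iff_ne] at h
  obtain ⟨⟨⟨htree, hall⟩, hfull⟩, hkeys⟩ := h
  have hbase : famOK quartBase = true := by decide +kernel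
  have hhd : hd ∈ orbitList hd steps := List.mem_cons_self
  have hokL : ∀ A ∈ orbitList hd steps, famOK A = true := fun A hA => famOK_of_mem (hall A hA).1
  have hq : ∀ A ∈ quartAll, famPts A ∈ quartets Spor.squareDodecad := fun A hA =>
    quartAll_subset (Finset.mem_coe.2 (List.mem_toFinset.2 (List.mem_map_of_mem hA)))
  set L : Set (Finset (Finset GolayPt)) := ↑((orbitList hd steps).map famPts).toFinset with hL
  have hsub : L ⊆ MulAction.orbit quartStab (famPts hd) := by
    intro Q hQ
    obtain ⟨A, hA, rfl⟩ := List.mem_map.1 (List.mem_toFinset.1 (Finset.mem_coe.1 hQ))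
    obtain ⟨σ, hσ, he⟩ := exists_map_of_tree gens_mem (k := famKind) (hokL hd hhd) htree hd hhd A hA
    exact ⟨⟨σ, hσ⟩, he⟩
  have hfib : {Q | Q ∈ quartets Spor.squareDodecad ∧ moment (famPts quartBase) Q = v} ⊆ L := by
    rintro Q ⟨hQ, hv⟩
    rw [quartets_eq] at hQ
    obtain ⟨A, hA, rfl⟩ := List.mem_map.1 (List.mem_toFinset.1 (Finset.mem_coe.1 hQ))
    rw [moment_famPts hbase (famOK_of_mem hA)] at hv
    exact Finset.mem_coe.2 (List.mem_toFinset.2
      (List.mem_map_of_mem ((hfull A hA).resolve_right fun hn => hn hv)))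
  have hinv : MulAction.orbit quartStab (famPts hd) ⊆
      {Q | Q ∈ quartets Spor.squareDodecad ∧ moment (famPts quartBase) Q = v} := by
    rintro _ ⟨σ, rfl⟩
    refine ⟨smul_mem_quartets_square σ.2.1 (hq _ (hall hd hhd).1), ?_⟩
    show moment (famPts quartBase) ((σ : Equiv.Perm GolayPt) • famPts hd) = v
    conv_lhs => rw [← MulAction.mem_stabilizer_iff.1 σ.2.2]
    rw [moment_smul, moment_famPts hbase (hokL hd hhd), (hall hd hhd).2]
  have heq := Set.Subset.antisymm hinv (hfib.trans hsub)
  refine ⟨hq _ (hall hd hhd).1, heq, ?_⟩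
  rw [show MulAction.orbit quartStab (famPts hd) = L from
    Set.Subset.antisymm (hinv.trans hfib) hsub, hL, Set.ncard_coe_finset,
    List.toFinset_card_of_nodup, List.length_map, orbitList, List.length_cons, List.length_map]
  have hnd := nodup_of_distinctKeys hkeys
  exact (hnd.of_map _).map_on fun a ha b hb he =>
    List.inj_on_of_nodup_map hnd ha hb (famKind.key_congr a b (hokL a ha) (hokL b hb) he)

theorem orbit12 : orbitOK head12 steps12 90 = true := by decide +kernel
theorem orbit27 : orbitOK head27 steps27 68 = true := by decide +kernel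
theorem orbit72 : orbitOK head72 steps72 54 = true := by decide +kernel
theorem orbit108 : orbitOK head108 steps108 26 = true := by decide +kernel

theorem sizes : steps12.length + 1 = 12 ∧ steps27.length + 1 = 27 ∧ steps72.length + 1 = 72 ∧
    steps108.length + 1 = 108 := by decide +kernel

theorem moment_cases : ∀ Q ∈ quartets Spor.squareDodecad, Q = famPts quartBase ∨
    moment (famPts quartBase) Q = 90 ∨ moment (famPts quartBase) Q = 68 ∨
    moment (famPts quartBase) Q = 54 ∨ moment (famPts quartBase) Q = 26 := by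
  intro Q hQ
  rw [quartets_eq] at hQ
  obtain ⟨A, hA, rfl⟩ := List.mem_map.1 (List.mem_toFinset.1 (Finset.mem_coe.1 hQ))
  rw [moment_famPts (by decide +kernel) (famOK_of_mem hA)]
  have h : (quartAll.all fun A => A == quartBase || [90, 68, 54, 26].contains (momentMask quartBase A))
      = true := by decide +kernel
  have := List.all_eq_true.1 h A hA
  simp only [Bool.or_eq_true, beq_iff_eq, List.contains_iff_mem, List.mem_cons, List.not_mem_nil,
    or_false] at this
  rcases this with rfl | h
  · exact Or.inl rfl
  · exact Or.inr h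

end Cfsg.Agent.Mathieu.Quartet
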