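import Cfsg.Agent.Lib.Mathieu.Dodecad.QuartetStab

/-!
Moving statements on quartets from the dodecad of squares to an arbitrary dodecad.
-/

set_option autoImplicit false
set_option maxRecDepth 20000

namespace Cfsg.Agent.Mathieu.Quartet

open Cfsg
open scoped Pointwise

theorem exists_frame {d : Finset GolayPt} (hd : d ∈ dodecads) {Q : Finset (Finset GolayPt)}
    (hQ : Q ∈ quartets d) :
    ∃ g ∈ M24, g • Spor.squareDodecad = d ∧ g • famPts quartBase = Q := by
  obtain ⟨g, hg, rfl⟩ := M24_exists_map_square hd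
  have hQ' := smul_mem_quartets (inv_mem hg) hQ
  rw [inv_smul_smul] at hQ'
  obtain ⟨k, hk, hkQ⟩ := exists_map_base hQ'
  exact ⟨g * k, mul_mem hg (M12_le_M24 hk), by rw [mul_smul, (mem_M12_iff.1 hk).2],
    by rw [mul_smul, hkQ, smul_inv_smul]⟩

theorem quartets_smul {g : Equiv.Perm GolayPt} (hg : g ∈ M24) (d : Finset GolayPt) :
    quartets (g • d) = g • quartets d := by
  ext Q
  rw [Set.mem_smul_set_iff_inv_smul_mem]
  refine ⟨fun h => ?_, fun h => ?_⟩
  · simpa using smul_mem_quartets (inv_mem hg) h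
  · simpa using smul_mem_quartets hg h

theorem quartets_ncard_of {d : Finset GolayPt} (hd : d ∈ dodecads) :
    (quartets d).ncard = 220 := by
  obtain ⟨g, hg, rfl⟩ := M24_exists_map_square hd
  rw [quartets_smul hg, Set.ncard_smul_set, quartets_ncard]

theorem exists_map_quartet {d : Finset GolayPt} (hd : d ∈ dodecads)
    {Q Q' : Finset (Finset GolayPt)} (hQ : Q ∈ quartets d) (hQ' : Q' ∈ quartets d) :
    ∃ g ∈ M24, g • d = d ∧ g • Q = Q' := by
  obtain ⟨g, hg, hgd, hgQ⟩ := exists_frame hd hQ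
  obtain ⟨k, hk, hkd, hkQ⟩ := exists_frame hd hQ'
  exact ⟨k * g⁻¹, mul_mem hk (inv_mem hg), by rw [mul_smul, ← hgd, inv_smul_smul, hkd, hgd],
    by rw [mul_smul, ← hgQ, inv_smul_smul, hkQ]⟩

theorem existsUnique_of {d : Finset GolayPt} (hd : d ∈ dodecads) {t u : Finset GolayPt}
    (ht : t.card = 3) (hu : u.card = 3) (htu : Disjoint t u) (hh : t ∪ u ∈ hexadsOn d) :
    ∃! Q, Q ∈ quartets d ∧ t ∈ Q ∧ u ∈ Q := by
  obtain ⟨g, hg, rfl⟩ := M24_exists_map_square hd
  have hh' := smul_mem_hexadsOn (inv_mem hg) hh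
  rw [inv_smul_smul, smul_union_pts] at hh'
  obtain ⟨Q₀, ⟨hQ₀, htQ, huQ⟩, huniq⟩ := existsUnique_quartet (t := g⁻¹ • t) (u := g⁻¹ • u)
    (by rw [card_smul_pts, ht]) (by rw [card_smul_pts, hu])
    (by
      rw [Finset.disjoint_left]
      intro p hp hq
      rw [mem_smul_pts] at hp hq
      exact Finset.disjoint_left.1 htu hp hq) hh'
  refine ⟨g • Q₀, ⟨by rw [quartets_smul hg]; exact Set.smul_mem_smul_set hQ₀,
    by simpa using Finset.smul_mem_smul_finset (a := g) htQ,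
    by simpa using Finset.smul_mem_smul_finset (a := g) huQ⟩, fun Q hQ => ?_⟩
  rw [quartets_smul hg] at hQ
  rw [← huniq (g⁻¹ • Q) ⟨Set.mem_smul_set_iff_inv_smul_mem.1 hQ.1,
    Finset.smul_mem_smul_finset hQ.2.1, Finset.smul_mem_smul_finset hQ.2.2⟩, smul_inv_smul]

/-- The stabiliser of a dodecad and one of its quartets is the reference one. -/
theorem stab_equiv {g : Equiv.Perm GolayPt} (hg : g ∈ M24) :
    Nonempty (↥(MulAction.stabilizer M24 (g • Spor.squareDodecad) ⊓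
      MulAction.stabilizer M24 (g • famPts quartBase)) ≃* quartStab) := by
  refine ⟨(MulEquiv.subgroupCongr ?_).trans
    ((stabConjEquiv hg (Spor.squareDodecad, famPts quartBase)).trans (MulEquiv.subgroupCongr ?_))⟩
  · simp only [Prod.smul_mk, stabilizer_prod]
  · rw [stabilizer_prod, quartStab, Spor.M12, inf_assoc]

theorem stab_map_point_of {d : Finset GolayPt} (hd : d ∈ dodecads)
    {Q : Finset (Finset GolayPt)} (hQ : Q ∈ quartets d) {p q : GolayPt} (hp : p ∈ d) (hq : q ∈ d) :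
    ∃ h ∈ MulAction.stabilizer M24 d ⊓ MulAction.stabilizer M24 Q,
      ((h : M24) : Equiv.Perm GolayPt) p = q := by
  obtain ⟨g, hg, rfl, rfl⟩ := exists_frame hd hQ
  obtain ⟨σ, hσ, hσp⟩ := stab_map_point (mem_smul_pts.1 hp) (mem_smul_pts.1 hq)
  obtain ⟨hσ12, hσQ⟩ := hσ
  obtain ⟨hσ24, hσd⟩ := mem_M12_iff.1 hσ12
  refine ⟨⟨g * σ * g⁻¹, mul_mem (mul_mem hg hσ24) (inv_mem hg)⟩, ⟨?_, ?_⟩, ?_⟩
  · show (g * σ * g⁻¹) • (g • Spor.squareDodecad) = g • Spor.squareDodecad
    rw [mul_smul, mul_smul, inv_smul_smul, hσd]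
  · show (g * σ * g⁻¹) • (g • famPts quartBase) = g • famPts quartBase
    rw [mul_smul, mul_smul, inv_smul_smul, MulAction.mem_stabilizer_iff.1 hσQ]
  · show (g * σ * g⁻¹) p = q
    rw [Equiv.Perm.mul_apply, Equiv.Perm.mul_apply]
    exact (congrArg g hσp).trans (g.apply_symm_apply q)

theorem orbit_smul {g : Equiv.Perm GolayPt} (hg : g ∈ M24) (X : Finset (Finset GolayPt)) :
    MulAction.orbit ↥(MulAction.stabilizer M24 (g • Spor.squareDodecad) ⊓
      MulAction.stabilizer M24 (g • famPts quartBase)) (g • X) =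
      g • MulAction.orbit quartStab X := by
  ext Y
  rw [Set.mem_smul_set_iff_inv_smul_mem]
  constructor
  · rintro ⟨⟨⟨a, ha⟩, hd, hQ⟩, rfl⟩
    have hd' : a • (g • Spor.squareDodecad) = g • Spor.squareDodecad := hd
    have hQ' : a • (g • famPts quartBase) = g • famPts quartBase := hQ
    refine ⟨⟨g⁻¹ * a * g, ⟨mem_M12_iff.2 ⟨mul_mem (mul_mem (inv_mem hg) ha) hg, ?_⟩, ?_⟩⟩, ?_⟩
    · rw [mul_smul, mul_smul, hd', inv_smul_smul]
    · show (g⁻¹ * a * g) • famPts quartBase = famPts quartBase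
      rw [mul_smul, mul_smul, hQ', inv_smul_smul]
    · show (g⁻¹ * a * g) • X = g⁻¹ • (a • (g • X))
      rw [mul_smul, mul_smul]
  · rintro ⟨⟨a, ha12, haQ⟩, he⟩
    obtain ⟨ha, had⟩ := mem_M12_iff.1 ha12
    refine ⟨⟨⟨g * a * g⁻¹, mul_mem (mul_mem hg ha) (inv_mem hg)⟩, ?_, ?_⟩, ?_⟩
    · show (g * a * g⁻¹) • (g • Spor.squareDodecad) = g • Spor.squareDodecad
      rw [mul_smul, mul_smul, inv_smul_smul, had]
    · show (g * a * g⁻¹) • (g • famPts quartBase) = g • famPts quartBase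
      rw [mul_smul, mul_smul, inv_smul_smul, MulAction.mem_stabilizer_iff.1 haQ]
    · show (g * a * g⁻¹) • (g • X) = Y
      rw [mul_smul, mul_smul, inv_smul_smul, show a • X = g⁻¹ • Y from he, smul_inv_smul]

end Cfsg.Agent.Mathieu.Quartet
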