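import Cfsg.Agent.Lib.Mathieu.Dodecad.Tools

/-!
The pointwise stabiliser in `M12` of three points of the dodecad.
-/

set_option autoImplicit false
set_option maxRecDepth 20000

namespace Cfsg.Agent.Mathieu

open Cfsg
open scoped Pointwise

/-- Certificate data. -/
def threeGens : List ℕ := [0x130f110716090e10170a081205150604140c0b030d020100, 0xe14160b070905040a17061015130d0c0f12110803020100]
/-- Certificate data. -/
def threeHead : ℕ := 0x20
/-- Certificate data. -/
def threeSteps : List (ℕ × ℕ × ℕ) := [(0, 0, 0x800), (0, 1, 0x200000), (0, 0, 0x20000), (0, 0, 0x4000), (0, 0, 0x400), (0, 1, 0x80000), (0, 0, 0x400000), (0, 0, 0x8000), (0, 0, 0x800000), (2, 1, 0x100000), (0, 0, 0x80)]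

/-- The pointwise stabiliser in `M12` of the first three points of the base. -/
def threeFix : Subgroup (Equiv.Perm GolayPt) :=
  Spor.M12 ⊓ MulAction.stabilizer (Equiv.Perm GolayPt) (idx ptEnc 0) ⊓
    MulAction.stabilizer (Equiv.Perm GolayPt) (idx ptEnc 1) ⊓
    MulAction.stabilizer (Equiv.Perm GolayPt) (idx ptEnc 2)

theorem three_check : ((threeGens.all fun l => m12OK l && app l 0 == 0 && app l 1 == 1 && app l 2 == 2) &&
    treeOK maskKind threeGens [threeHead] threeSteps &&
    ((List.range 24).all fun i => dodMask.testBit i ||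
      (threeHead :: threeSteps.map fun s => s.2.2).contains (2 ^ i))) = true := by
  decide +kernel

theorem card_threeFix : Nat.card threeFix = 72 := by
  have h := (M12_cert.2.2.take 3).card
  have hl : ((toLevels ptEnc levels12).take 3).map (fun p => p.1) =
      [idx ptEnc 0, idx ptEnc 1, idx ptEnc 2] := by decide +kernel
  have hp : (((toLevels ptEnc levels12).take 3).map fun p => p.2.card).prod = 1320 := by decide +kernel
  rw [card_M12, hl, hp] at h
  simp only [fixList] at h
  rw [threeFix]
  omega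

theorem threeFix_map {x y : GolayPt} (hx : x ∉ Spor.squareDodecad) (hy : y ∉ Spor.squareDodecad) :
    ∃ g ∈ threeFix, g x = y := by
  have h := three_check
  simp only [Bool.and_eq_true, List.all_eq_true, beq_iff_eq] at h
  obtain ⟨⟨hg, htree⟩, hall⟩ := h
  have hgen : ∀ l ∈ threeGens, ∃ σ ∈ threeFix, Rep ptEnc σ l := by
    intro l hl
    obtain ⟨⟨⟨h12, a0⟩, a1⟩, a2⟩ := hg l hl
    obtain ⟨σ, hσ, hr⟩ := exists_of_m12OK h12
    refine ⟨σ, ⟨⟨⟨hσ, ?_⟩, ?_⟩, ?_⟩, hr⟩ <;>
      show σ _ = _ <;> rw [hr.apply_idx (by norm_num)]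
    · rw [a0]
    · rw [a1]
    · rw [a2]
  have hmem : ∀ z, z ∉ Spor.squareDodecad →
      2 ^ (ptEnc z).val ∈ threeHead :: threeSteps.map fun s => s.2.2 := by
    intro z hz
    rw [squareDodecad_eq, mem_ptsOf, hasPt] at hz
    have := hall (ptEnc z).val (List.mem_range.2 (Fin.isLt _))
    simpa [hz] using this
  obtain ⟨σ, hσ, he⟩ := exists_map_of_tree hgen (by decide +kernel) htree _ (hmem x hx) _ (hmem y hy)
  refine ⟨σ, hσ, ?_⟩
  simp only [show ∀ m, maskKind.pts m = ptsOf m from fun _ => rfl, ptsOf_two_pow (Fin.isLt _),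
    Fin.eta, Equiv.symm_apply_apply, Finset.smul_finset_singleton, Finset.singleton_inj] at he
  exact he

end Cfsg.Agent.Mathieu
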