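import Cfsg.Agent.Lib.Mathieu.Hexads
import Cfsg.Agent.Lib.Mathieu.OrbitCert
import Cfsg.Agent.Lib.Mathieu.Dodecad.Intertwine

/-!
Small tools for stabilisers inside the stabiliser of the dodecad of squares: packed elements of
`M12` and `M11`, orbit bounds and transport to arbitrary reference objects.
-/

set_option autoImplicit false
set_option maxRecDepth 20000

namespace Cfsg.Agent.Mathieu

open Cfsg
open scoped Pointwise

/-- A packed element of `M12`. -/
def m12OK (l : ℕ) : Bool := permOK 24 l && presCode l && mapsMask l dodMask dodMask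

/-- A packed element of `M11`. -/
def m11OK (l : ℕ) : Bool := m12OK l && app l 0 == 0

theorem exists_of_m12OK {l : ℕ} (h : m12OK l = true) : ∃ σ ∈ Spor.M12, Rep ptEnc σ l := by
  simp only [m12OK, Bool.and_eq_true] at h
  obtain ⟨σ, hσ⟩ := exists_rep (e := ptEnc) h.1.1
  refine ⟨σ, mem_M12_iff.2 ⟨mem_M24_of_rep hσ h.1.2, ?_⟩, hσ⟩
  rw [squareDodecad_eq]
  exact smul_ptsOf hσ h.2

theorem exists_of_m11OK {l : ℕ} (h : m11OK l = true) : ∃ σ ∈ Spor.M11, Rep ptEnc σ l := by
  simp only [m11OK, Bool.and_eq_true, beq_iff_eq] at h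
  obtain ⟨σ, hσ, hr⟩ := exists_of_m12OK h.1
  refine ⟨σ, mem_M11_iff.2 ⟨hσ, ?_⟩, hr⟩
  have := hr.apply_idx (show 0 < 24 by norm_num)
  rwa [h.2, idx_zero] at this

theorem idx_mem_square {i : ℕ} (hi : i < 24) :
    idx ptEnc i ∈ Spor.squareDodecad ↔ dodMask.testBit i = true := by
  rw [squareDodecad_eq, mem_ptsOf, hasPt, idx_val hi]

/-- A stabiliser is small when the orbit has many known members. -/
theorem card_inf_stabilizer_mul_le {G β : Type*} [Group G] [Finite G] [MulAction G β]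
    (H : Subgroup G) (x : β) (T : Set β) (hT : ∀ y ∈ T, ∃ h ∈ H, h • x = y) :
    Nat.card ↥(H ⊓ MulAction.stabilizer G x) * T.ncard ≤ Nat.card H := by
  have h1 : Nat.card (MulAction.stabilizer H x) = Nat.card ↥(H ⊓ MulAction.stabilizer G x) :=
    Nat.card_congr ⟨fun g => ⟨((g : H) : G), (g : H).2, g.2⟩, fun g => ⟨⟨(g : G), g.2.1⟩, g.2.2⟩,
      fun _ => rfl, fun _ => rfl⟩
  rw [← (MulAction.stabilizer H x).index_mul_card, MulAction.index_stabilizer, h1, mul_comm]
  refine Nat.mul_le_mul_right _ (Set.ncard_le_ncard ?_ (Set.finite_range _))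
  intro y hy
  obtain ⟨h, hh, rfl⟩ := hT y hy
  exact ⟨⟨h, hh⟩, rfl⟩

theorem card_inf_stabilizer_conj {β : Type*} [MulAction (Equiv.Perm GolayPt) β] {x : β}
    {g : Equiv.Perm GolayPt} (hg : g ∈ M24) :
    Nat.card (MulAction.stabilizer M24 (g • x)) =
      Nat.card ↥(M24 ⊓ MulAction.stabilizer (Equiv.Perm GolayPt) x) :=
  Nat.card_congr (stabConjEquiv hg x).toEquiv

/-- An orbit certificate inside a subgroup. -/
theorem exists_map_of_tree {β₀ β : Type} [MulAction (Equiv.Perm GolayPt) β] {k : CertKind β₀ β}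
    {H : Subgroup (Equiv.Perm GolayPt)} {gens : List ℕ} {hd : β₀} {steps : List (ℕ × ℕ × β₀)}
    (hg : ∀ l ∈ gens, ∃ σ ∈ H, Rep ptEnc σ l) (hok : k.ok hd = true)
    (htree : treeOK k gens [hd] steps = true) :
    ∀ y ∈ hd :: steps.map (fun s => s.2.2), ∀ z ∈ hd :: steps.map (fun s => s.2.2),
      ∃ σ ∈ H, σ • k.pts y = k.pts z := by
  have hone : ∀ y ∈ hd :: steps.map (fun s => s.2.2), ∃ σ ∈ H, σ • k.pts hd = k.pts y := by
    intro y hy
    rcases List.mem_cons.1 hy with rfl | hy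
    · exact ⟨1, H.one_mem, one_smul _ _⟩
    · obtain ⟨s, hs, rfl⟩ := List.mem_map.1 hy
      exact (treeOK_spec hg _ steps [hd] (fun w hw => by
        rw [List.mem_singleton] at hw
        subst hw
        exact ⟨hok, 1, H.one_mem, one_smul _ _⟩) htree s hs).2
  intro y hy z hz
  obtain ⟨σ, hσ, h1⟩ := hone y hy
  obtain ⟨τ, hτ, h2⟩ := hone z hz
  exact ⟨τ * σ⁻¹, H.mul_mem hτ (H.inv_mem hσ), by rw [← h1, mul_smul, inv_smul_smul, h2]⟩

end Cfsg.Agent.Mathieu
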